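import Groth.Prelude.Def_RedSub
import Groth.Agent.Sga3.H778.NeutralOpen
import Groth.Agent.Sga3B.TorusIrr
import Groth.Agent.Sga3B.GaPts
import Groth.Agent.Sga3B.Parab.Defs

/-!
# Connected fibres of tori and of `𝔾_a`; lifting to the open neutral component
-/

set_option autoImplicit false

universe u

open CategoryTheory MonoidalCategory CartesianMonoidalCategory MonObj GrpObj AlgebraicGeometry Limits
open Groth.Agent.Sga3B Groth.Agent.Sga3B.Parab Groth.Agent.Sga3.H778.NeutralOpen Groth.Agent.Sga3.H778.NeutralPts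
open Polynomial

namespace Groth.Agent.RedSub.H636.ConnFib

variable {S : Scheme.{u}}

/-- Tori have connected fibres. -/
theorem hasConnectedFibres_torus {T : Over S} [GrpObj T] (h : Red.IsTorus T) :
    _root_.RedSub.HasConnectedFibres T := by
  intro s
  have h1 : GeometricallyIrreducible T.hom := TorusIrr.geometricallyIrreducible_of_isTorus h
  have h3 : IrreducibleSpace ↥(T.hom.fiber s) := inferInstance
  have h4 : Set.range (T.hom.fiberι s) = T.hom ⁻¹' {s} := T.hom.range_fiberι s
  change _root_.IsConnected (T.hom ⁻¹' {s})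
  rw [← h4]
  exact isConnected_range (T.hom.fiberι s).continuous

section line

variable (K : Type u) [CommRing K] (c : Spec (CommRingCat.of K) ⟶ S)

/-- The tautological point of `𝔾_a` over the line `Spec K[X]`. -/
noncomputable def line : lin K c ⟶ Red.Ga S :=
  GaPts.gaPt (lin K c) ((Scheme.ΓSpecIso (CommRingCat.of K[X])).inv.hom X)

lemma exists_comp_line {L : Type u} [CommRing L] (ψ : K →+* L) (c' : Spec (CommRingCat.of L) ⟶ S)
    (hc : Spec.map (CommRingCat.ofHom ψ) ≫ c = c') (x' : aff L c' ⟶ Red.Ga S) :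
    ∃ w : aff L c' ⟶ lin K c, w ≫ line K c = x' := by
  let x : L := (Scheme.ΓSpecIso (CommRingCat.of L)).hom.hom (Red.gaFn x')
  have hx : (Scheme.ΓSpecIso (CommRingCat.of L)).inv.hom x = Red.gaFn x' := by
    change (Scheme.ΓSpecIso (CommRingCat.of L)).inv.hom ((Scheme.ΓSpecIso (CommRingCat.of L)).hom.hom _) = _
    rw [← CommRingCat.comp_apply, Iso.hom_inv_id]
    rfl
  let θ : K[X] →+* L := Polynomial.eval₂RingHom ψ x
  have hθ : θ X = x := Polynomial.eval₂_X _ _
  let w : aff L c' ⟶ lin K c :=
    Over.homMk (Spec.map (CommRingCat.ofHom θ)) (by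
      change Spec.map (CommRingCat.ofHom θ) ≫ Spec.map (CommRingCat.ofHom (algebraMap K K[X])) ≫ c = _
      rw [← Category.assoc, ← Spec.map_comp, ← CommRingCat.ofHom_comp, ← hc]
      congr 3
      ext a
      simp [θ])
  refine ⟨w, ?_⟩
  apply GaPts.gaFn_injective
  rw [GaPts.gaFn_comp, line, GaPts.gaFn_gaPt, ← hx, ← hθ]
  have h := Scheme.ΓSpecIso_inv_naturality (CommRingCat.ofHom θ)
  exact (congrArg (fun f => f.hom X) h).symm

end line

lemma range_line (s : S) {K : CommRingCat.{u}} (hK : IsField K) (c : Spec K ⟶ S)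
    (hs : ∀ z, c z = s)
    (hc : ∀ y : (Red.Ga S).left, (Red.Ga S).hom y = s → ∃ (ψ : K ⟶ (Red.Ga S).left.residueField y),
      Spec.map ψ ≫ c = (Red.Ga S).left.fromSpecResidueField y ≫ (Red.Ga S).hom) :
    _root_.IsConnected ((Red.Ga S).hom ⁻¹' {s}) := by
  let _ := hK.toField
  have h4 : Set.range (line K c).left = (Red.Ga S).hom ⁻¹' {s} := by
    apply Set.Subset.antisymm
    · rintro _ ⟨w, rfl⟩
      change (Red.Ga S).hom ((line K c).left w) = s
      rw [← Scheme.Hom.comp_apply, Over.w]
      exact hs _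
    · intro y hy
      obtain ⟨ψ, hψ⟩ := hc y hy
      let x' : aff ((Red.Ga S).left.residueField y) ((Red.Ga S).left.fromSpecResidueField y ≫ (Red.Ga S).hom) ⟶
        Red.Ga S := Over.homMk ((Red.Ga S).left.fromSpecResidueField y) rfl
      obtain ⟨w, hw⟩ := exists_comp_line K c ψ.hom _ hψ x'
      let p : Spec ((Red.Ga S).left.residueField y) := default
      have hp : (Red.Ga S).left.fromSpecResidueField y p = y := Scheme.fromSpecResidueField_apply _ p
      refine ⟨w.left p, ?_⟩
      rw [← Scheme.Hom.comp_apply, ← Over.comp_left, hw]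
      exact hp
  rw [← h4]
  have h5 : IsDomain K := hK.isDomain
  have : IrreducibleSpace ↥(lin K c).left :=
    inferInstanceAs (IrreducibleSpace (PrimeSpectrum (K[X])))
  exact isConnected_range (line K c).left.continuous

/-- `𝔾_a` has connected fibres. -/
theorem hasConnectedFibres_Ga : _root_.RedSub.HasConnectedFibres (Red.Ga S) := by
  intro s
  refine range_line s (K := S.residueField s) (Field.toIsField _) (S.fromSpecResidueField s)
    (fun z => Scheme.fromSpecResidueField_apply _ _) ?_
  rintro y rfl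
  exact ⟨(Red.Ga S).hom.residueFieldMap y, Scheme.Hom.SpecMap_residueFieldMap_fromSpecResidueField _ y⟩

/-- A morphism with connected fibres sending the unit to the unit goes to the neutral component. -/
theorem mem_neutralSet {K P : Over S} [GrpObj P] (f : K ⟶ P) (e : 𝟙_ (Over S) ⟶ K) (he : e ≫ f = η[P])
    (hK : _root_.RedSub.HasConnectedFibres K) (x : K.left) : f.left x ∈ SGA3x.neutralSet P := by
  rw [neutralSet_eq]
  change _ ∈ connectedComponentIn _ _
  have h1 : P.hom (f.left x) = K.hom x := by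
    rw [← Scheme.Hom.comp_apply, Over.w]
  rw [h1]
  let s := K.hom x
  have hc : _root_.IsPreconnected (f.left '' (K.hom ⁻¹' {s})) :=
    (hK s).isPreconnected.image _ f.left.continuous.continuousOn
  have hsub : f.left '' (K.hom ⁻¹' {s}) ⊆ P.hom ⁻¹' {s} := by
    rintro _ ⟨y, hy, rfl⟩
    change P.hom (f.left y) = s
    rw [← Scheme.Hom.comp_apply, Over.w]
    exact hy
  have hu : unitSec P s ∈ f.left '' (K.hom ⁻¹' {s}) := by
    refine ⟨e.left s, ?_, ?_⟩
    · change K.hom (e.left s) = s
      have h2 : e.left ≫ K.hom = 𝟙 S := Over.w e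
      rw [← Scheme.Hom.comp_apply, h2]
      rfl
    · have h3 : e.left ≫ f.left = unitSec P := congrArg (fun g => g.left) he
      rw [← h3, Scheme.Hom.comp_apply]
  exact hc.subset_connectedComponentIn hu hsub ⟨x, rfl, rfl⟩

/-- Lifting to the open neutral component. -/
theorem exists_lift_neutral {K P : Over S} [GrpObj P] (h0 : IsOpen (SGA3x.neutralSet P)) (f : K ⟶ P)
    (e : 𝟙_ (Over S) ⟶ K) (he : e ≫ f = η[P]) (hK : _root_.RedSub.HasConnectedFibres K) :
    ∃ f' : K ⟶ opn P (neutral P h0), f' ≫ opnι P (neutral P h0) = f :=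
  exists_lift _ f fun t => mem_neutralSet f e he hK t

end Groth.Agent.RedSub.H636.ConnFib
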