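import Groth.Prelude.Def_RedSub
import Groth.Agent.Sga3B.Chart
import Groth.Agent.Sga3B.RankOneConj

/-!
# Points of ordered products of root homomorphisms

Points of `RedSub.pow X n`, `RedSub.prodMap`, `RedSub.cellMap`, `RedSub.borelMap`, `RedSub.bruhatMap` with values in
an arbitrary `T : Over S`, and their translation to list products in the datum of a chart.
-/

set_option autoImplicit false
universe u

open CategoryTheory MonoidalCategory CartesianMonoidalCategory MonObj GrpObj AlgebraicGeometry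

namespace Groth.Agent.RedSub.H636.CellPts

open Groth.Agent.Sga3B Groth.Agent.Sga3B.Cell Groth.Agent.Sga3B.PinMod Groth.Agent.Sga3B.DSPts
  Groth.Agent.Sga3B.GaPts

section pow

variable {S : Scheme.{u}} {X G : Over S} [GrpObj G] {T T' : Over S}

/-- The point of `X^n` with the given coordinates. -/
noncomputable def powPt : (n : ℕ) → (Fin n → (T ⟶ X)) → (T ⟶ RedSub.pow X n)
  | 0, _ => toUnit T
  | n + 1, x => lift (x 0) (powPt n (fun k => x k.succ))

lemma powPt_zero (x : Fin 0 → (T ⟶ X)) : powPt 0 x = toUnit T := rfl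

lemma powPt_succ (n : ℕ) (x : Fin (n + 1) → (T ⟶ X)) :
    powPt (n + 1) x = lift (x 0) (powPt n (fun k => x k.succ)) := rfl

/-- Every point of `X^n` is given by its coordinates. -/
lemma exists_powPt : ∀ (n : ℕ) (y : T ⟶ RedSub.pow X n), ∃ x : Fin n → (T ⟶ X), y = powPt n x
  | 0, y => ⟨Fin.elim0, toUnit_unique _ _⟩
  | n + 1, y => by
    obtain ⟨x, hx⟩ := exists_powPt n (y ≫ snd X (RedSub.pow X n))
    refine ⟨Fin.cons (y ≫ fst X (RedSub.pow X n)) x, ?_⟩
    rw [powPt_succ]
    apply CartesianMonoidalCategory.hom_ext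
    · rw [lift_fst]; rfl
    · rw [lift_snd]; exact hx

lemma powPt_injective : ∀ (n : ℕ) (x y : Fin n → (T ⟶ X)), powPt n x = powPt n y → x = y
  | 0, x, y, _ => Subsingleton.elim _ _
  | n + 1, x, y, h => by
    rw [powPt_succ, powPt_succ] at h
    have h0 := congrArg (fun z => z ≫ fst X (RedSub.pow X n)) h
    have h1 := congrArg (fun z => z ≫ snd X (RedSub.pow X n)) h
    simp only [lift_fst, lift_snd] at h0 h1
    have h2 := powPt_injective n _ _ h1
    funext k
    refine Fin.cases h0 (fun k => congrFun h2 k) k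

lemma comp_powPt (g : T' ⟶ T) : ∀ (n : ℕ) (x : Fin n → (T ⟶ X)),
    g ≫ powPt n x = powPt n (fun k => g ≫ x k)
  | 0, _ => toUnit_unique _ _
  | n + 1, x => by
    rw [powPt_succ, powPt_succ, ← comp_powPt g n]
    exact comp_lift g (x 0) (powPt n fun k => x k.succ)

/-- The ordered product map on points. -/
lemma powPt_prodMap : ∀ (n : ℕ) (f : Fin n → (X ⟶ G)) (x : Fin n → (T ⟶ X)),
    powPt n x ≫ RedSub.prodMap X n f = (List.ofFn fun k => x k ≫ f k).prod
  | 0, f, x => by
    rw [List.ofFn_zero, List.prod_nil]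
    exact MonObj.comp_one _
  | n + 1, f, x => by
    rw [powPt_succ, List.ofFn_succ, List.prod_cons, ← powPt_prodMap n]
    change lift (x 0) (powPt n (fun k => x k.succ)) ≫
      ((fst X (RedSub.pow X n) ≫ f 0) * (snd X (RedSub.pow X n) ≫
        RedSub.prodMap X n (fun k => f k.succ))) = _
    rw [MonObj.comp_mul, ← Category.assoc, ← Category.assoc, lift_fst, lift_snd]

end pow

section maps

variable {S : Scheme.{u}} {G : Over S} [GrpObj G] (D : Red.SplitRed G) {T : Over S}

lemma cellMap_pts {n m : ℕ} (eneg : Fin n → D.idx) (epos : Fin m → D.idx)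
    (y : Fin n → (T ⟶ Red.Ga S)) (t : T ⟶ D.T) (x : Fin m → (T ⟶ Red.Ga S)) :
    lift (powPt n y) (lift t (powPt m x)) ≫ RedSub.cellMap D eneg epos =
      (List.ofFn fun k => y k ≫ D.u (eneg k)).prod *
        ((t ≫ D.i) * (List.ofFn fun k => x k ≫ D.u (epos k)).prod) := by
  rw [← powPt_prodMap n (fun k => D.u (eneg k)) y, ← powPt_prodMap m (fun k => D.u (epos k)) x]
  unfold RedSub.cellMap
  simp only [MonObj.comp_mul, ← Category.assoc, lift_fst, lift_snd]

lemma borelMap_pts {m : ℕ} (epos : Fin m → D.idx) (t : T ⟶ D.T) (x : Fin m → (T ⟶ Red.Ga S)) :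
    lift t (powPt m x) ≫ RedSub.borelMap D epos =
      (t ≫ D.i) * (List.ofFn fun k => x k ≫ D.u (epos k)).prod := by
  rw [← powPt_prodMap m (fun k => D.u (epos k)) x]
  unfold RedSub.borelMap
  simp only [MonObj.comp_mul, ← Category.assoc, lift_fst, lift_snd]

lemma bruhatMap_pts (nr : D.idx → (𝟙_ (Over S) ⟶ G)) (l : List D.idx) {k m : ℕ}
    (e : Fin k → D.idx) (epos : Fin m → D.idx)
    (y : Fin k → (T ⟶ Red.Ga S)) (t : T ⟶ D.T) (x : Fin m → (T ⟶ Red.Ga S)) :
    lift (powPt k y) (lift t (powPt m x)) ≫ RedSub.bruhatMap D nr l e epos =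
      (List.ofFn fun j => y j ≫ D.u (e j)).prod *
        ((toUnit T ≫ (l.map nr).prod) *
          ((t ≫ D.i) * (List.ofFn fun j => x j ≫ D.u (epos j)).prod)) := by
  rw [← powPt_prodMap k (fun j => D.u (e j)) y, ← powPt_prodMap m (fun j => D.u (epos j)) x]
  unfold RedSub.bruhatMap
  simp only [MonObj.comp_mul, ← Category.assoc, lift_fst, lift_snd]
  congr 3
  exact toUnit_unique _ _

/-- every point of the source of the cell map is given by coordinates -/
lemma exists_cell_coords {n m : ℕ} (z : T ⟶ RedSub.pow (Red.Ga S) n ⊗ (D.T ⊗ RedSub.pow (Red.Ga S) m)) :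
    ∃ (y : Fin n → (T ⟶ Red.Ga S)) (t : T ⟶ D.T) (x : Fin m → (T ⟶ Red.Ga S)),
      z = lift (powPt n y) (lift t (powPt m x)) := by
  obtain ⟨y, hy⟩ := exists_powPt n (z ≫ fst _ _)
  obtain ⟨x, hx⟩ := exists_powPt m (z ≫ snd _ _ ≫ snd _ _)
  refine ⟨y, z ≫ snd _ _ ≫ fst _ _, x, ?_⟩
  apply CartesianMonoidalCategory.hom_ext
  · rw [lift_fst, hy]
  · rw [lift_snd]
    apply CartesianMonoidalCategory.hom_ext
    · rw [lift_fst, Category.assoc]
    · rw [lift_snd, Category.assoc, hx]

/-- every point of the source of the Borel map is given by coordinates -/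
lemma exists_borel_coords {m : ℕ} (z : T ⟶ D.T ⊗ RedSub.pow (Red.Ga S) m) :
    ∃ (t : T ⟶ D.T) (x : Fin m → (T ⟶ Red.Ga S)), z = lift t (powPt m x) := by
  obtain ⟨x, hx⟩ := exists_powPt m (z ≫ snd _ _)
  refine ⟨z ≫ fst _ _, x, ?_⟩
  apply CartesianMonoidalCategory.hom_ext
  · rw [lift_fst]
  · rw [lift_snd, hx]

end maps

section chart

variable {S : Scheme.{u}} {G : Over S} [GrpObj G] (D : Red.SplitRed G) {R : Type u} [CommRing R]
  {s : Spec (CommRingCat.of R) ⟶ S} (c : Chart G s) {B : Type u} [CommRing B] [Algebra R B]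

/-- affine points of `𝔾_a` -/
noncomputable abbrev gaP (s : Spec (CommRingCat.of R) ⟶ S) (x : B) : tB s B ⟶ Red.Ga S :=
  gaPt (tB s B) (fnOf s x)

/-- affine points of the torus -/
noncomputable abbrev tP (s : Spec (CommRingCat.of R) ⟶ S) (t : TPt D.M B) : tB s B ⟶ D.T :=
  dsEquiv (tB s B) D.M (chΓ s t) ≫ D.split.inv.hom.hom

lemma exists_gaP (x : tB s B ⟶ Red.Ga S) : ∃ y : B, x = gaP s y := exists_gaPt s x

lemma exists_tP (t : tB s B ⟶ D.T) : ∃ τ : TPt D.M B, t = tP D s τ := by
  obtain ⟨τ, hτ⟩ := exists_chΓ s (t ≫ D.split.hom.hom.hom)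
  refine ⟨τ, ?_⟩
  unfold tP
  rw [← hτ, Category.assoc]
  exact (by rw [Chart.splitHom_inv D, Category.comp_id])

lemma gaP_injective : Function.Injective (gaP (B := B) s) := by
  intro x y h
  apply fnOf_injective s
  have h1 := congrArg Red.gaFn h
  rwa [gaFn_gaPt, gaFn_gaPt] at h1

lemma tP_injective : Function.Injective (tP (B := B) D s) := by
  intro t t' h
  have h1 := congrArg (fun z => z ≫ D.split.hom.hom.hom) h
  simp only [tP, Category.assoc] at h1
  have h2 : D.split.inv.hom.hom ≫ D.split.hom.hom.hom = 𝟙 _ :=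
    congrArg (fun f => f.hom.hom) D.split.inv_hom_id
  rw [h2, Category.comp_id, Category.comp_id] at h1
  exact chΓ_injective s ((dsEquiv (tB s B) D.M).injective h1)

lemma pts_i_tP (t : TPt D.M B) : c.pts B ((c.datum D).i B t) = tP D s t ≫ D.i := by
  rw [c.pts_i D t, Category.assoc]

lemma pts_uu_gaP (a : D.idx) (x : B) : c.pts B ((c.datum D).uu a B x) = gaP s x ≫ D.u a :=
  c.pts_uu D a x

lemma pts_ofFn {n : ℕ} (e : Fin n → D.idx) (x : Fin n → B) :
    c.pts B ((List.ofFn fun k => (c.datum D).uu (e k) B (x k)).prod) =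
      (List.ofFn fun k => gaP s (x k) ≫ D.u (e k)).prod := by
  rw [map_list_prod, List.map_ofFn]
  congr 2
  funext k
  exact pts_uu_gaP D c (e k) (x k)

/-- **The cell map on affine points.** -/
theorem cellMap_chart {n m : ℕ} (eneg : Fin n → D.idx) (epos : Fin m → D.idx) (y : Fin n → B)
    (t : TPt D.M B) (x : Fin m → B) :
    lift (powPt n (fun k => gaP s (y k))) (lift (tP D s t) (powPt m (fun k => gaP s (x k)))) ≫
      RedSub.cellMap D eneg epos =
      c.pts B ((List.ofFn fun k => (c.datum D).uu (eneg k) B (y k)).prod *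
        ((c.datum D).i B t * (List.ofFn fun k => (c.datum D).uu (epos k) B (x k)).prod)) := by
  rw [cellMap_pts, map_mul, map_mul, pts_ofFn, pts_ofFn, pts_i_tP]

/-- **The Borel map on affine points.** -/
theorem borelMap_chart {m : ℕ} (epos : Fin m → D.idx) (t : TPt D.M B) (x : Fin m → B) :
    lift (tP D s t) (powPt m (fun k => gaP s (x k))) ≫ RedSub.borelMap D epos =
      c.pts B ((c.datum D).i B t * (List.ofFn fun k => (c.datum D).uu (epos k) B (x k)).prod) := by
  rw [borelMap_pts, map_mul, pts_ofFn, pts_i_tP]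

/-- the affine point of a section of `G` -/
noncomputable def secPt (c : Chart G s) (B : Type u) [CommRing B] [Algebra R B] (n : 𝟙_ (Over S) ⟶ G) :
    Pt R c.A B := (c.pts B).symm (toUnit _ ≫ n)

lemma pts_secPt (n : 𝟙_ (Over S) ⟶ G) : c.pts B (secPt c B n) = toUnit _ ≫ n :=
  MulEquiv.apply_symm_apply _ _

lemma secPt_mul (n n' : 𝟙_ (Over S) ⟶ G) : secPt c B (n * n') = secPt c B n * secPt c B n' := by
  apply (c.pts B).injective
  rw [map_mul, pts_secPt, pts_secPt, pts_secPt, MonObj.comp_mul]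

lemma secPt_one : secPt c B (1 : 𝟙_ (Over S) ⟶ G) = 1 := by
  apply (c.pts B).injective
  rw [map_one, pts_secPt, MonObj.comp_one]

lemma secPt_prod (l : List (𝟙_ (Over S) ⟶ G)) :
    secPt c B l.prod = (l.map (secPt c B)).prod := by
  induction l with
  | nil => simp [secPt_one]
  | cons n l ih => rw [List.prod_cons, secPt_mul, ih, List.map_cons, List.prod_cons]

lemma map_secPt {C : Type u} [CommRing C] [Algebra R C] (φ : B →ₐ[R] C) (n : 𝟙_ (Over S) ⟶ G) :
    Pt.map φ (secPt c B n) = secPt c C n := by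
  apply (c.pts C).injective
  rw [← c.pts_nat, pts_secPt, pts_secPt, ← Category.assoc]
  congr 1
  exact toUnit_unique _ _

/-- **The Bruhat map on affine points.** -/
theorem bruhatMap_chart (nr : D.idx → (𝟙_ (Over S) ⟶ G)) (l : List D.idx) {k m : ℕ}
    (e : Fin k → D.idx) (epos : Fin m → D.idx) (y : Fin k → B) (t : TPt D.M B) (x : Fin m → B) :
    lift (powPt k (fun j => gaP s (y j))) (lift (tP D s t) (powPt m (fun j => gaP s (x j)))) ≫
      RedSub.bruhatMap D nr l e epos =
      c.pts B ((List.ofFn fun j => (c.datum D).uu (e j) B (y j)).prod *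
        ((l.map (fun a => secPt c B (nr a))).prod *
        ((c.datum D).i B t * (List.ofFn fun j => (c.datum D).uu (epos j) B (x j)).prod))) := by
  rw [bruhatMap_pts, map_mul, map_mul, map_mul, pts_ofFn, pts_ofFn, pts_i_tP]
  congr 2
  rw [← pts_secPt c, secPt_prod, List.map_map]
  rfl

/-- A family of sections realising the reflections acts on the torus of the chart. -/
theorem acts_of_realises {nr : D.idx → (𝟙_ (Over S) ⟶ G)} (h : RedSub.RealisesReflections D nr)
    (a : D.idx) : (c.datum D).Acts (secPt c R (nr a)) (D.P.reflection a).toLinearMap.toAddMonoidHom := by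
  intro B _ _ t t' htt'
  have h1 : c.pts B (Datum.bp B (secPt c R (nr a))) = toUnit _ ≫ nr a := by
    rw [Datum.bp, map_secPt, pts_secPt]
  have e1 : c.pts B ((c.datum D).i B t) = dsEquiv (tB s B) D.M (chΓ s t) ≫ Chart.j D := c.pts_i D t
  have e2 : c.pts B ((c.datum D).i B t') = dsEquiv (tB s B) D.M (chΓ s t') ≫ Chart.j D := c.pts_i D t'
  apply (c.pts B).injective
  rw [map_mul, map_mul, h1]
  refine (congrArg (fun z => (toUnit _ ≫ nr a) * z) e1).trans
    (Eq.trans ?_ (congrArg (fun z => z * (toUnit _ ≫ nr a)) e2).symm)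
  have h2 := h a (tB s B) (dsEquiv (tB s B) D.M (chΓ s t) ≫ D.split.inv.hom.hom)
  rw [mul_inv_eq_iff_eq_mul] at h2
  have h3 : D.split.inv.hom.hom ≫ D.split.hom.hom.hom = 𝟙 _ :=
    congrArg (fun f => f.hom.hom) D.split.inv_hom_id
  have h4 : (dsEquiv (tB s B) D.M (chΓ s t) ≫ D.split.inv.hom.hom) ≫ D.split.hom.hom.hom ≫
      Red.DSmap S (D.P.reflection a).toLinearMap.toAddMonoidHom ≫ D.split.inv.hom.hom ≫ D.i =
      dsEquiv (tB s B) D.M (chΓ s t') ≫ Chart.j D := by
    simp only [Category.assoc]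
    rw [← Category.assoc D.split.inv.hom.hom, h3, Category.id_comp, ← Category.assoc, dsEquiv_DSmap]
    change _ = dsEquiv (tB s B) D.M (chΓ s t') ≫ D.split.inv.hom.hom ≫ D.i
    congr 2
    refine MonoidHom.ext fun m => ?_
    exact (congrArg (fnOf s) (htt' m.toAdd)).symm
  rw [h4, Category.assoc] at h2
  exact h2

end chart

end Groth.Agent.RedSub.H636.CellPts
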