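import Mathlib.LinearAlgebra.RootSystem.Finite.Lemmas
import Mathlib.LinearAlgebra.RootSystem.Finite.CanonicalBilinear
import Mathlib.Algebra.Order.BigOperators.Group.Multiset

/-!
# Closed sets of roots and the monoid they generate

`R'` a closed set of roots of a finite root datum (`a, b ∈ R'`, `a + b` a root imply `a + b ∈ R'`): every root in
the submonoid generated by `R'` is in `R'`.
-/

set_option autoImplicit false

namespace Groth.Agent.RedSub.H636.ClosedRoots

variable {ι M N : Type*} [Finite ι] [AddCommGroup M] [AddCommGroup N] [Module ℤ M] [Module ℤ N]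
  (P : RootPairing ι ℤ M N)

/-- If a root is a sum of roots then it has a positive pairing with one of them. -/
theorem exists_pairing_pos (s : Multiset ι) (a : ι) (h : P.root a = (s.map P.root).sum) :
    ∃ b ∈ s, 0 < P.pairingIn ℤ a b := by
  have : Fintype ι := Fintype.ofFinite ι
  by_contra hcon
  push Not at hcon
  let B := P.posRootForm ℤ
  have hpos : ∀ i, 0 < B.form (P.root i) (P.root i) := by
    intro i
    obtain ⟨s, hs, hs'⟩ := B.exists_pos_eq i
    rw [← hs']
    exact hs
  have hle : ∀ b ∈ s, B.form (P.root a) (P.root b) ≤ 0 := by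
    intro b hb
    have h1 := B.two_mul_apply_root_root a b
    have h2 : P.pairing a b ≤ 0 := by
      have := hcon b hb
      rwa [← P.algebraMap_pairingIn ℤ]
    have h3 := hpos b
    nlinarith
  have h1 : B.form (P.root a) (P.root a) = (s.map fun b => B.form (P.root a) (P.root b)).sum := by
    have h0 := congrArg (B.form (P.root a)) h
    rw [map_multiset_sum, Multiset.map_map] at h0
    exact h0
  have h2 : (s.map fun b => B.form (P.root a) (P.root b)).sum ≤ 0 := by
    have h3 := Multiset.sum_le_card_nsmul (s.map fun b => B.form (P.root a) (P.root b)) 0 (by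
      intro x hx
      obtain ⟨b, hb, rfl⟩ := Multiset.mem_map.1 hx
      exact hle b hb)
    rwa [smul_zero] at h3
  have := hpos a
  lia

/-- Sums of elements of a closed set of roots which are roots belong to it. -/
theorem mem_of_eq_sum (R' : Set ι)
    (hcl : ∀ a b c : ι, a ∈ R' → b ∈ R' → P.root a + P.root b = P.root c → c ∈ R') :
    ∀ (n : ℕ) (s : Multiset ι), s.card = n → (∀ b ∈ s, b ∈ R') → ∀ a : ι,
      P.root a = (s.map P.root).sum → a ∈ R' := by
  intro n
  induction n with
  | zero =>
    intro s hs _ a ha
    obtain ⟨b, hb, _⟩ := exists_pairing_pos P s a ha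
    rw [Multiset.card_eq_zero] at hs
    simp [hs] at hb
  | succ n ih =>
    intro s hs hR a ha
    obtain ⟨b, hb, hab⟩ := exists_pairing_pos P s a ha
    by_cases hne : a = b
    · exact hne ▸ hR b hb
    obtain ⟨c, hc⟩ := P.root_sub_root_mem_of_pairingIn_pos hab hne
    obtain ⟨t, rfl⟩ := Multiset.exists_cons_of_mem hb
    rw [Multiset.map_cons, Multiset.sum_cons] at ha
    have h1 : c ∈ R' := by
      refine ih t ?_ (fun x hx => hR x (Multiset.mem_cons_of_mem hx)) c ?_
      · rw [Multiset.card_cons] at hs
        lia
      · rw [hc, ha, add_sub_cancel_left]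
    refine hcl c b a h1 (hR b hb) ?_
    rw [hc, sub_add_cancel]

/-- **The roots in the monoid generated by a closed set of roots.** -/
theorem root_mem_closure_iff (R' : Set ι)
    (hcl : ∀ a b c : ι, a ∈ R' → b ∈ R' → P.root a + P.root b = P.root c → c ∈ R') (a : ι) :
    P.root a ∈ AddSubmonoid.closure (P.root '' R') ↔ a ∈ R' := by
  constructor
  · intro h
    obtain ⟨s, hs, hsum⟩ := AddSubmonoid.exists_multiset_of_mem_closure h
    obtain ⟨t, ht⟩ : ∃ t : Multiset ι, t.map P.root = s ∧ ∀ b ∈ t, b ∈ R' := by
      clear hsum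
      induction s using Multiset.induction_on with
      | empty => exact ⟨0, by simp, by simp⟩
      | cons x s ih =>
        obtain ⟨t, ht, htR⟩ := ih fun y hy => hs y (Multiset.mem_cons_of_mem hy)
        obtain ⟨b, hb, hbx⟩ := hs x (Multiset.mem_cons_self x s)
        refine ⟨b ::ₘ t, by rw [Multiset.map_cons, ht, hbx], ?_⟩
        intro y hy
        rcases Multiset.mem_cons.1 hy with rfl | hy
        · exact hb
        · exact htR y hy
    exact mem_of_eq_sum P R' hcl _ t rfl ht.2 a (by rw [ht.1, hsum])
  · intro h
    exact AddSubmonoid.subset_closure ⟨a, h, rfl⟩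

end Groth.Agent.RedSub.H636.ClosedRoots
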