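import Groth.Agent.S3005
import Groth.Agent.Sga3B.SplitBc264b
import Groth.Prelude.Def_RedSub

/-!
# Integral models of split reductive groups, from the existence theorem over `ℤ`

`exists_int_model` : the conclusion of `S3949` for a split reductive `k`-group follows from the existence theorem `S3948`
for the root datum of that group, by base change of splittings and the uniqueness theorem `S3005`.
-/

set_option autoImplicit false
open CategoryTheory MonoidalCategory CartesianMonoidalCategory MonObj GrpObj AlgebraicGeometry
universe u

namespace Groth.Agent.RedSub.H636.IntModel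

open Groth.Agent.Sga3B

/-- `S3948` for the root datum `D.P` implies `S3949` for the split group `(Gk, D)`, over any non-empty base. -/
theorem exists_int_model {S : Scheme.{u}} (Gk : Over S) [GrpObj Gk] (D : Red.SplitRed Gk)
    (h : ∃ (G : Over (Spec (CommRingCat.of (ULift.{u} ℤ)))) (_ : GrpObj G), Red.IsReductive G ∧ Red.IsSplitOfType D.P G) :
    ∃ (G : Over (Spec (CommRingCat.of (ULift.{u} ℤ)))) (_ : GrpObj G), Red.IsReductive G ∧
      Nonempty (Grp.mk (Red.bc (Limits.IsTerminal.from specULiftZIsTerminal S) G) ≅ Grp.mk Gk) := by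
  obtain ⟨G, hG, hred, D₀, ⟨e⟩⟩ := h
  let f := Limits.IsTerminal.from specULiftZIsTerminal S
  have h1 : Red.IsSplitOfType D.P (Red.bc f G) := ⟨SplitBc264.splitBc f D₀, ⟨e⟩⟩
  have h2 : Red.IsSplitOfType D.P Gk := ⟨D, ⟨RootPairing.Equiv.id D.P⟩⟩
  exact ⟨G, hG, hred, S3005.result S D.P _ _ h1 h2⟩

/-- The root datum of a split reductive group over a field is reduced. -/
theorem isReduced_of_split (k : Type u) [Field k] {Gk : Over (Spec (CommRingCat.of k))} [GrpObj Gk] (D : Red.SplitRed Gk) :
    D.P.IsReduced := SplitReduced415.isReduced D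

end Groth.Agent.RedSub.H636.IntModel
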