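import Groth.Agent.Sga3B.Parab.OrbPar156
import Groth.Agent.Sga3B.Chart
import Groth.Agent.Sga3B.GaPts

/-!
# The torus and the root subgroups inside the subgroup of a monoid of characters

`D` a splitting of `G`, `T` a submonoid of the character group `D.M`: the torus satisfies `PtT`, and (the base
being non-empty) the root homomorphism `u_a` satisfies `PtT` if and only if the root `a` is in `T`.
-/

set_option autoImplicit false

universe u

open CategoryTheory MonoidalCategory CartesianMonoidalCategory MonObj GrpObj AlgebraicGeometry Limits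
open Groth.Agent.Sga3B Groth.Agent.Sga3B.Parab.OrbM156 Groth.Agent.Sga3B.Parab

namespace Groth.Agent.RedSub.H636.MonPts

section torus

variable {S : Scheme.{u}} {G : Over S} [GrpObj G] {M : Type} [AddCommGroup M] (J : Red.DS S M ⟶ G)
  [IsMonHom J]

lemma ds_comm {X : Over S} (a b : X ⟶ Red.DS S M) : a * b = b * a := by
  apply (DSPts.dsEquiv X M).symm.injective
  rw [map_mul, map_mul, _root_.mul_comm]

/-- The torus satisfies `PtT`. -/
theorem ptT_torus (T : Submonoid (Multiplicative M)) {X : Over S} (t : X ⟶ Red.DS S M) :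
    PtT J T (t ≫ J) := by
  intro C _ c x
  refine ⟨mPr T C c ≫ x ≫ t ≫ J, ?_⟩
  rw [toT_mPr_assoc, orbM]
  have h1 : (mPt C c ≫ J) * (mPr (Multiplicative M) C c ≫ x ≫ t ≫ J) =
      (mPr (Multiplicative M) C c ≫ x ≫ t ≫ J) * (mPt C c ≫ J) := by
    have h2 := congrArg (fun z => z ≫ J) (ds_comm (mPt C c) (mPr (Multiplicative M) C c ≫ x ≫ t))
    simp only [MonObj.mul_comp, Category.assoc] at h2
    exact h2
  rw [h1, mul_inv_cancel_right]

end torus

section root

variable {S : Scheme.{u}} {G : Over S} [GrpObj G] (D : Red.SplitRed G)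
variable {C : Type u} [CommRing C] {c : Spec (CommRingCat.of C) ⟶ S}

/-- The conjugated orbit of a point of a root subgroup. -/
lemma exists_root_orb (a : D.idx) (x : aff C c ⟶ Red.Ga S) :
    ∃ z : mon (Multiplicative D.M) C c ⟶ Red.Ga S, z ≫ D.u a = orbM (Chart.j D) (x ≫ D.u a) ∧
      Red.gaFn z = mChar C c (Multiplicative.ofAdd (D.P.root a)) *
        Red.gaFn (mPr (Multiplicative D.M) C c ≫ x) := by
  obtain ⟨z, hz1, hz2⟩ := (D.rootHom a).2.2 (mon (Multiplicative D.M) C c) (mPt C c ≫ D.split.inv.hom.hom)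
    (mPr (Multiplicative D.M) C c ≫ x)
  refine ⟨z, ?_, ?_⟩
  · rw [hz1, orbM]
    simp only [Category.assoc]
  · rw [hz2]
    congr 1
    have h1 : (mPt C c ≫ D.split.inv.hom.hom) ≫ D.split.hom.hom.hom ≫ Red.chi S (D.P.root a) =
        mPt C c ≫ Red.chi S (D.P.root a) := by
      have h2 : D.split.inv.hom.hom ≫ D.split.hom.hom.hom = 𝟙 _ :=
        congrArg (fun f => f.hom.hom) D.split.inv_hom_id
      rw [Category.assoc, reassoc_of% h2]
    rw [h1, GaPts.gmFn_chi, mPt, DSPts.dsChar_dsEquiv]

/-- The tautological character of a submonoid. -/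
noncomputable def tChar (C : Type u) [CommRing C] (c : Spec (CommRingCat.of C) ⟶ S)
    {M : Type} [AddCommGroup M] (T : Submonoid (Multiplicative M)) (m : T) :
    Γ((mon T C c).left, ⊤) :=
  (Scheme.ΓSpecIso (CommRingCat.of (MonoidAlgebra C T))).inv.hom (MonoidAlgebra.single m 1)

lemma appTop_specMap {A B : Type u} [CommRing A] [CommRing B] (φ : A →+* B) (a : A) :
    (Spec.map (CommRingCat.ofHom φ)).appTop.hom ((Scheme.ΓSpecIso (CommRingCat.of A)).inv.hom a) =
      (Scheme.ΓSpecIso (CommRingCat.of B)).inv.hom (φ a) := by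
  have h := Scheme.ΓSpecIso_inv_naturality (CommRingCat.ofHom φ)
  exact (congrArg (fun f => f.hom a) h).symm

lemma toT_tChar {M : Type} [AddCommGroup M] (T : Submonoid (Multiplicative M)) (m : T) :
    (toT C c T).left.appTop.hom (tChar C c T m) = mChar C c (m : Multiplicative M) := by
  have h := appTop_specMap (incl C C T).toRingHom (MonoidAlgebra.single m (1 : C))
  refine h.trans ?_
  have h1 : (incl C C T).toRingHom (MonoidAlgebra.single m (1 : C)) =
      MonoidAlgebra.single (m : Multiplicative M) (1 : C) := by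
    change MonoidAlgebra.mapDomain _ (MonoidAlgebra.single _ _) = _
    rw [MonoidAlgebra.mapDomain_single]
    rfl
  rw [h1]
  rfl

/-- **Root subgroups of roots in the monoid.** -/
theorem ptT_root (T : Submonoid (Multiplicative D.M)) (a : D.idx)
    (ha : Multiplicative.ofAdd (D.P.root a) ∈ T) {X : Over S} (x : X ⟶ Red.Ga S) :
    PtT (Chart.j D) T (x ≫ D.u a) := by
  intro C _ c y
  obtain ⟨z, hz1, hz2⟩ := exists_root_orb D a (y ≫ x)
  refine ⟨GaPts.gaPt (mon T C c) (tChar C c T ⟨_, ha⟩ * Red.gaFn (mPr T C c ≫ y ≫ x)) ≫ D.u a, ?_⟩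
  rw [← Category.assoc y, ← hz1, ← Category.assoc]
  congr 1
  apply GaPts.gaFn_injective
  rw [GaPts.gaFn_comp, GaPts.gaFn_gaPt, hz2]
  change (toT C c T).left.appTop.hom (_ * _) = _
  rw [map_mul, toT_tChar]
  congr 1
  have h := GaPts.gaFn_comp (toT C c T) (mPr T C c ≫ y ≫ x)
  rw [toT_mPr_assoc] at h
  exact h.symm

/-- Lifting along a closed immersion can be tested after a map which is injective on functions. -/
lemma exists_lift_of_injective {X Y Z K : Scheme.{u}} [IsAffine Y] (q : X ⟶ Y)
    (hq : Function.Injective q.appTop.hom) (i : K ⟶ Z) [IsClosedImmersion i] (h : Y ⟶ Z) (l : X ⟶ K)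
    (hl : l ≫ i = q ≫ h) : ∃ m : Y ⟶ K, m ≫ i = h := by
  obtain ⟨h1, h2⟩ := IsClosedImmersion.isAffine_surjective_of_isAffine (pullback.snd i h)
  have h3 : Function.Injective (pullback.snd i h).appTop.hom := by
    have h4 : (pullback.snd i h).appTop ≫ (pullback.lift l q hl).appTop = q.appTop := by
      rw [← Scheme.Hom.comp_appTop, pullback.lift_snd]
    intro x y hxy
    apply hq
    rw [← h4]
    change (pullback.lift l q hl).appTop.hom ((pullback.snd i h).appTop.hom x) =
      (pullback.lift l q hl).appTop.hom ((pullback.snd i h).appTop.hom y)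
    rw [hxy]
  have h5 : IsIso (pullback.snd i h).appTop :=
    (ConcreteCategory.isIso_iff_bijective _).2 ⟨h3, h2⟩
  have h6 : IsIso (pullback.snd i h) :=
    (HasAffineProperty.iff_of_isAffine (P := MorphismProperty.isomorphisms Scheme.{u})).2 ⟨h1, h5⟩
  exact ⟨inv (pullback.snd i h) ≫ pullback.fst i h, by
    rw [Category.assoc, pullback.condition, IsIso.inv_hom_id_assoc]⟩

lemma exists_inv {A : Type u} [CommRing A] (x : Γ(Spec (CommRingCat.of A), ⊤)) :
    ∃ x' : A, (Scheme.ΓSpecIso (CommRingCat.of A)).inv.hom x' = x := by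
  refine ⟨(Scheme.ΓSpecIso (CommRingCat.of A)).hom.hom x, ?_⟩
  rw [← CommRingCat.comp_apply, Iso.hom_inv_id]
  rfl

lemma inv_injective {A : Type u} [CommRing A] :
    Function.Injective (Scheme.ΓSpecIso (CommRingCat.of A)).inv.hom := by
  intro x y h
  have h1 := congrArg (Scheme.ΓSpecIso (CommRingCat.of A)).hom.hom h
  rwa [← CommRingCat.comp_apply, ← CommRingCat.comp_apply, Iso.inv_hom_id] at h1

lemma toT_injective {M : Type} [AddCommGroup M] (T : Submonoid (Multiplicative M)) :
    Function.Injective (toT C c T).left.appTop.hom := by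
  intro x y h
  obtain ⟨x, rfl⟩ := exists_inv x
  obtain ⟨y, rfl⟩ := exists_inv y
  have hx := appTop_specMap (incl C C T).toRingHom x
  have hy := appTop_specMap (incl C C T).toRingHom y
  change (Spec.map (CommRingCat.ofHom (incl C C T).toRingHom)).appTop.hom _ =
    (Spec.map (CommRingCat.ofHom (incl C C T).toRingHom)).appTop.hom _ at h
  rw [hx, hy] at h
  exact congrArg _ (incl_injective T (inv_injective h))

/-- **If a root subgroup satisfies `PtT` then the root is in the monoid.** -/
theorem mem_of_ptT [hS : Nonempty S] (T : Submonoid (Multiplicative D.M)) (a : D.idx)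
    (h : PtT (Chart.j D) T (D.u a)) : Multiplicative.ofAdd (D.P.root a) ∈ T := by
  by_contra hT
  obtain ⟨s⟩ := hS
  let C : Type u := S.residueField s
  let c : Spec (CommRingCat.of C) ⟶ S := S.fromSpecResidueField s
  obtain ⟨f, hf⟩ := h C c (GaPts.gaPt (aff C c) 1)
  obtain ⟨z, hz1, hz2⟩ := exists_root_orb D a (GaPts.gaPt (aff C c) 1)
  rw [← hz1] at hf
  have hcl : IsClosedImmersion (D.u a).left := (D.rootHom a).2.1
  have haff : IsAffine (mon T C c).left :=
    inferInstanceAs (IsAffine (Spec (CommRingCat.of (MonoidAlgebra C T))))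
  obtain ⟨m, hm⟩ := exists_lift_of_injective (toT C c T).left (toT_injective T) (D.u a).left f.left z.left
    (congrArg (fun g => g.left) hf).symm
  let m' : mon T C c ⟶ Red.Ga S := Over.homMk m (by
    rw [← Over.w (D.u a), ← Category.assoc, hm]
    exact Over.w f)
  have h1 : toT C c T ≫ m' = z := by
    have hmono : Mono (D.u a) := Over.mono_of_mono_left _
    rw [← cancel_mono (D.u a), ← hf, Category.assoc]
    congr 1
    ext1
    exact hm
  have h2 := congrArg Red.gaFn h1
  rw [hz2, GaPts.gaFn_comp, GaPts.gaFn_comp, GaPts.gaFn_gaPt, map_one, _root_.mul_one] at h2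
  obtain ⟨y, hy⟩ := exists_inv (Red.gaFn m')
  have h3 := appTop_specMap (incl C C T).toRingHom y
  change (toT C c T).left.appTop.hom _ = _ at h3
  rw [hy] at h3
  have h4 : (Scheme.ΓSpecIso (CommRingCat.of (MonoidAlgebra C (Multiplicative D.M)))).inv.hom (incl C C T y) =
      (Scheme.ΓSpecIso (CommRingCat.of (MonoidAlgebra C (Multiplicative D.M)))).inv.hom
        (MonoidAlgebra.single (Multiplicative.ofAdd (D.P.root a)) 1) := h3.symm.trans h2
  have h5 := inv_injective h4
  have h6 := coeff_incl (R := C) T y hT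
  rw [h5, MonoidAlgebra.coeff_single, Finsupp.single_eq_same] at h6
  exact one_ne_zero h6

end root

end Groth.Agent.RedSub.H636.MonPts
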