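import Groth.Agent.Sga3B.Parab.OrbPar156
import Groth.Agent.Sga3B.Parab.DynSmooth998
import Groth.Agent.Sga3B.RootCoact
import Groth.Agent.Sga3B.GrDynAlg678

/-!
# The closed subgroup attached to a monoid of characters is smooth

`J : D_S(M) ⟶ G` a homomorphism into a smooth affine `S`-group, `T` a submonoid of `M` and `P ⟶ G` the closed subgroup
of the points `g` such that the conjugates `J(t) g J(t)⁻¹` extend to the monoid scheme of `T`. Then `P` is smooth.
-/

set_option autoImplicit false

universe u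

open CategoryTheory MonoidalCategory CartesianMonoidalCategory MonObj GrpObj AlgebraicGeometry Limits
open Groth.Agent.Sga3B Groth.Agent.Sga3B.RG Groth.Agent.Sga3B.Parab.OrbM156
open Groth.Agent.Sga3B.Parab.Chart998 Groth.Agent.Sga3B.Parab.Rep998 Groth.Agent.Sga3B.Parab.DynSmooth998
open Groth.Agent.Books.AffBridge Groth.Agent.Sga3B.Parab

namespace Groth.Agent.RedSub.H636.MonSub

variable {S : Scheme.{u}} {G : Over S} [GrpObj G] {M : Type} [AddCommGroup M] (J : Red.DS S M ⟶ G)
  [IsMonHom J]

/-- The conjugation coaction of `D(M)` in a chart. -/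
noncomputable def coact {R : Type u} [CommRing R] {r : Spec (CommRingCat.of R) ⟶ S} {A : Type u} [CommRing A]
    [HopfAlgebra R A] (e : Red.bc r G ≅ SpecOver R A) [IsMonHom e.hom] : RootCoact.Coact R A M where
  rho := ConjGrade.rho (piB J e)
  sum_rho := ConjGrade.sum_pr (piB J e)
  rho_coeff a m := ConjGrade.rho_pr (piB J e) m a

lemma mem_gr_coact {R : Type u} [CommRing R] {r : Spec (CommRingCat.of R) ⟶ S} {A : Type u} [CommRing A]
    [HopfAlgebra R A] (e : Red.bc r G ≅ SpecOver R A) [IsMonHom e.hom] (m : M) (a : A) :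
    a ∈ RootCoact.gr (coact J e) m ↔ a ∈ ConjGrade.gr (piB J e) (Multiplicative.ofAdd m) := Iff.rfl

/-- **The subgroup of a monoid of characters is smooth.** -/
theorem smooth_of_ptT [IsAffineHom G.hom] [Smooth G.hom] (T : Submonoid (Multiplicative M)) {P : Over S} [GrpObj P]
    {p : P ⟶ G} [Mono p] (hp : ∀ (X : Over S) (g : X ⟶ G), (∃ x : X ⟶ P, x ≫ p = g) ↔ PtT J T g) :
    Smooth P.hom := by
  classical
  refine prop_of_charts @Smooth fun R _ r _ => ?_
  obtain ⟨A, _, _, e, _⟩ := exists_chart (G := G) r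
  have hA := smooth_chart e
  let c := coact J e
  have hid := idealCond J T
  have hQ : ∀ (C : Type u) [CommRing C] (c : Spec (CommRingCat.of C) ⟶ S) (g : aff C c ⟶ G),
      PtQ (fun (C : Type u) [CommRing C] (c : Spec (CommRingCat.of C) ⟶ S) (g : aff C c ⟶ G) => QT J C c T g) g ↔
        QT J C c T g := fun C _ c g => hid.ptQ_iff g
  obtain ⟨φ, -⟩ := exists_chart_sub _ hQ (p := p) hp e
    (GrDynAlg678.JS (RootCoact.gr c) (Submonoid.toAddSubmonoid' T)) (by
      intro C _ _ cc hc g
      change QT J C cc T (pt e hc g) ↔ _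
      rw [qt_pt_iff, GrDynAlg678.vanish_JS_iff]
      exact ⟨fun h m hm a ha => h (Multiplicative.ofAdd m) hm a ha, fun h m hm a ha => h m.toAdd hm a ha⟩)
  exact smooth_of_iso φ ((smooth_alg _ _).2 inferInstance)

end Groth.Agent.RedSub.H636.MonSub
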