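import Groth.Agent.RedSub.H647.SubF
import Groth.Agent.RedSub.H672.ZarGlue
import Groth.Agent.Dix.ProjProper

/-!
# A functor of subgroups which is locally represented by closed subschemes of projective spaces

`exists_rep_projective` : if `subsF 𝒬` is Zariski-locally on the base represented by a closed subscheme of a projective
space, then it is represented by a proper, locally projective scheme.
-/

set_option autoImplicit false

universe u

open CategoryTheory CategoryTheory.Limits AlgebraicGeometry Opposite MonoidalCategory CartesianMonoidalCategory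
  MonObj GrpObj

namespace Groth.Agent.RedSub.H636.RepProj

open Groth.Agent.Sga3B Groth.Agent.RedSub.H647.SubF

/-- Base change of a representation along a factorisation. -/
theorem nonempty_representableBy_bc {B V S : Scheme.{u}} (j : B ⟶ V) (v : V ⟶ S) (w : B ⟶ S) (h : j ≫ v = w)
    {F : (Over S)ᵒᵖ ⥤ Type u} {Z : Over V} (r : ((Over.map v).op ⋙ F).RepresentableBy Z) :
    Nonempty (((Over.map w).op ⋙ F).RepresentableBy (Red.bc j Z)) := by
  subst h
  have r1 : ((Over.map j).op ⋙ ((Over.map v).op ⋙ F)).RepresentableBy (Red.bc j Z) := RepDescent.repBC j r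
  exact ⟨r1.ofIso (Functor.isoWhiskerRight (NatIso.op (Over.mapComp j v)) F)⟩

/-- The properties of the representing scheme. -/
theorem isProper_and_isLocallyProjective {S : Scheme.{u}} {F : (Over S)ᵒᵖ ⥤ Type u} {M : Over S}
    (r : F.RepresentableBy M)
    (h : ∀ s : S, ∃ (S' : Scheme.{u}) (j : S' ⟶ S) (_ : IsOpenImmersion j) (_ : s ∈ Set.range j) (n : ℕ)
      (Z : Over S') (e : Z.left ⟶ CohB1.ProjSpaceOver n S'), IsClosedImmersion e ∧
        e ≫ CohB1.ProjSpaceOver.toBase n S' = Z.hom ∧ Nonempty (((Over.map j).op ⋙ F).RepresentableBy Z)) :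
    IsProper M.hom ∧ RedSub.IsLocallyProjective M := by
  -- comparison with the local pieces
  have key : ∀ s : S, ∃ (S' : Scheme.{u}) (j : S' ⟶ S) (_ : IsOpenImmersion j), s ∈ Set.range j ∧
      ∃ (n : ℕ) (e : (Red.bc j M).left ⟶ CohB1.ProjSpaceOver n S'),
        IsClosedImmersion e ∧ e ≫ CohB1.ProjSpaceOver.toBase n S' = (Red.bc j M).hom := by
    intro s
    obtain ⟨S', j, hj, hs, n, Z, e, he, hen, ⟨r'⟩⟩ := h s
    let ε := (RepDescent.repBC j r).uniqueUpToIso r'
    have h1 : IsIso ε.hom.left := inferInstanceAs (IsIso ((Over.forget _).map ε.hom))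
    refine ⟨S', j, hj, hs, n, ε.hom.left ≫ e, inferInstance, ?_⟩
    rw [Category.assoc, hen]
    exact Over.w ε.hom
  choose S' j hj hs n e he hen using key
  let 𝒰 : S.OpenCover :=
    { I₀ := S
      X := S'
      f := j
      mem₀ := by
        rw [Scheme.presieve₀_mem_precoverage_iff]
        exact ⟨fun s => ⟨s, hs s⟩, fun s => hj s⟩ }
  refine ⟨?_, ?_⟩
  · refine IsZariskiLocalAtTarget.of_openCover (P := @IsProper) 𝒰 fun s => ?_
    have h1 : IsProper (e s ≫ CohB1.ProjSpaceOver.toBase (n s) (S' s)) := inferInstance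
    rw [hen s] at h1
    exact h1
  · intro s
    have := hj s
    have := he s
    refine ⟨(j s).opensRange, hs s, n s, ?_⟩
    have hr : Set.range (j s) = Set.range (j s).opensRange.ι := by
      rw [Scheme.Opens.range_ι]
      rfl
    let k : ((j s).opensRange : Scheme.{u}) ≅ S' s :=
      (IsOpenImmersion.isoOfRangeEq (j s) (j s).opensRange.ι hr).symm
    have hk : k.hom ≫ j s = (j s).opensRange.ι := IsOpenImmersion.isoOfRangeEq_inv_fac _ _ hr
    let a : pullback M.hom (j s).opensRange.ι ⟶ pullback M.hom (j s) :=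
      pullback.map _ _ _ _ (𝟙 _) k.hom (𝟙 _) (by simp) (by rw [hk, Category.comp_id])
    have ha : a ≫ pullback.snd M.hom (j s) = pullback.snd M.hom (j s).opensRange.ι ≫ k.hom :=
      pullback.lift_snd _ _ _
    have hai : IsIso a := inferInstance
    have hmi : IsIso (Dix.ProjProper.mapBase (n s) k.inv) :=
      MorphismProperty.of_isPullback (P := MorphismProperty.isomorphisms Scheme)
        (Dix.ProjProper.isPullback_mapBase (n s) k.inv).flip inferInstance
    refine ⟨a ≫ e s ≫ Dix.ProjProper.mapBase (n s) k.inv, inferInstance, ?_⟩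
    rw [Category.assoc, Category.assoc, Dix.ProjProper.mapBase_toBase, ← Category.assoc (e s), hen s]
    change a ≫ pullback.snd M.hom (j s) ≫ k.inv = _
    rw [← Category.assoc, ha, Category.assoc, Iso.hom_inv_id, Category.comp_id]
    rfl

/-- **Representability by a proper locally projective scheme is Zariski local on the base.** -/
theorem exists_rep_of_zariski {S : Scheme.{u}} {F : (Over S)ᵒᵖ ⥤ Type u} (hF : RepDescent.IsEtSheaf F)
    (h : ∀ s : S, ∃ (S' : Scheme.{u}) (j : S' ⟶ S) (_ : IsOpenImmersion j) (_ : s ∈ Set.range j) (n : ℕ)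
      (Z : Over S') (e : Z.left ⟶ CohB1.ProjSpaceOver n S'), IsClosedImmersion e ∧
        e ≫ CohB1.ProjSpaceOver.toBase n S' = Z.hom ∧ Nonempty (((Over.map j).op ⋙ F).RepresentableBy Z)) :
    ∃ M : Over S, Nonempty (F.RepresentableBy M) ∧ IsProper M.hom ∧ RedSub.IsLocallyProjective M := by
  obtain ⟨M, ⟨r⟩⟩ := H672.ZarGlue.exists_representableBy_of_zariski hF fun s => by
    obtain ⟨S', j, hj, hs, n, Z, e, he, hen, ⟨r'⟩⟩ := h s
    have hr : Set.range j = Set.range j.opensRange.ι := by
      rw [Scheme.Opens.range_ι]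
      rfl
    let k : (j.opensRange : Scheme.{u}) ≅ S' := (IsOpenImmersion.isoOfRangeEq j j.opensRange.ι hr).symm
    have hk : k.hom ≫ j = j.opensRange.ι := IsOpenImmersion.isoOfRangeEq_inv_fac _ _ hr
    exact ⟨j.opensRange, hs, Red.bc k.hom Z, nonempty_representableBy_bc k.hom j j.opensRange.ι hk r'⟩
  exact ⟨M, ⟨r⟩, isProper_and_isLocallyProjective r h⟩

/-- **The functor of subgroups of a class `𝒬` is represented by a proper, locally projective scheme** if it is so
Zariski-locally on the base. -/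
theorem exists_rep_projective {S : Scheme.{u}} {G : Over S} [GrpObj G] (𝒬 : SubClass G)
    (hloc : 𝒬.IsLocal (fun {_ _ _} q => SubClass.EtCov q))
    (h : ∀ s : S, ∃ (R : Type u) (_ : CommRing R) (v : Spec (CommRingCat.of R) ⟶ S) (_ : IsOpenImmersion v)
      (_ : s ∈ Set.range v) (N : ℕ) (Z : Over (Spec (CommRingCat.of R)))
      (i : Z.left ⟶ CohB1.ProjSpaceOver N (Spec (CommRingCat.of R))), IsClosedImmersion i ∧
        i ≫ CohB1.ProjSpaceOver.toBase N (Spec (CommRingCat.of R)) = Z.hom ∧
        Nonempty (((Over.map v).op ⋙ 𝒬.subsF).RepresentableBy Z)) :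
    ∃ M : Over S, Nonempty (𝒬.subsF.RepresentableBy M) ∧ IsProper M.hom ∧ RedSub.IsLocallyProjective M :=
  exists_rep_of_zariski (𝒬.isEtSheaf_subsF hloc) fun s => by
    obtain ⟨R, _, v, hv, hs, N, Z, i, hi, hi', hr⟩ := h s
    exact ⟨_, v, hv, hs, N, Z, i, hi, hi', hr⟩

end Groth.Agent.RedSub.H636.RepProj
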