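import Groth.Agent.RedSub.H636.WeylCov2

/-!
# Covering by Weyl translates of the big cell: the theorem over an algebraically closed field
-/

set_option autoImplicit false
universe u

open TensorProduct

namespace Groth.Agent.RedSub.H636.WeylCov

open Groth.Agent.Sga3B Groth.Agent.Sga3B.Cell Groth.Agent.Sga3B.Cell.Datum

section defs

variable {R A : Type u} [CommRing R] [CommRing A] [Algebra R A] [PtGrp R A] {D : Datum R A}
  {P : RootPairing D.idx ℤ D.M (Module.Dual ℤ D.M)}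

/-- the Borel subgroup on points -/
noncomputable def BG (hG : D.Good) (lam : D.M →+ ℤ) (B : Type u)
    [CommRing B] [Algebra R B] : Subgroup (Pt R A B) where
  carrier := {g | ∃ v ∈ UG hG lam B, ∃ t : TPt D.M B, g = v * D.i B t}
  one_mem' := ⟨1, one_mem _, 1, by rw [i_one', mul_one]⟩
  mul_mem' := by
    rintro _ _ ⟨v, hv, t, rfl⟩ ⟨v', hv', t', rfl⟩
    refine ⟨v * (D.i B t * v' * (D.i B t)⁻¹), mul_mem hv (conj_i_mem_UG hG lam t hv'), t * t', ?_⟩
    rw [i_mul']; group
  inv_mem' := by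
    rintro _ ⟨v, hv, t, rfl⟩
    refine ⟨D.i B t⁻¹ * v⁻¹ * (D.i B t⁻¹)⁻¹, conj_i_mem_UG hG lam _ (inv_mem hv), t⁻¹, ?_⟩
    rw [i_inv']; group

lemma U_le_BG (hG : D.Good) {lam : D.M →+ ℤ} {B : Type u} [CommRing B] [Algebra R B] {g : Pt R A B} (hg : g ∈ UG hG lam B) : g ∈ BG hG lam B :=
  ⟨g, hg, 1, by rw [i_one', mul_one]⟩

lemma i_mem_BG (hG : D.Good) {lam : D.M →+ ℤ} {B : Type u} [CommRing B] [Algebra R B] (t : TPt D.M B) : D.i B t ∈ BG hG lam B :=
  ⟨1, one_mem _, t, by rw [one_mul]⟩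

/-- the union of the Bruhat cells -/
def XB (b : P.Base) (nr : D.idx → Pt R A R) (hG : D.Good)
    (lam : D.M →+ ℤ) (B : Type u) [CommRing B] [Algebra R B] : Set (Pt R A B) :=
  {g | ∃ w : List D.idx, (∀ c ∈ w, c ∈ b.support) ∧ ∃ u ∈ UG hG lam B, ∃ β ∈ BG hG lam B,
    g = u * nw nr B w * β}

/-- the subgroup of points preserving the union of the Bruhat cells -/
def stab {B : Type u} [CommRing B] [Algebra R B] (X : Set (Pt R A B)) : Subgroup (Pt R A B) where
  carrier := {g | (∀ x ∈ X, g * x ∈ X) ∧ ∀ x ∈ X, g⁻¹ * x ∈ X}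
  one_mem' := ⟨fun x hx => by rwa [one_mul], fun x hx => by rwa [inv_one, one_mul]⟩
  mul_mem' := by
    rintro g h ⟨h1, h2⟩ ⟨h3, h4⟩
    refine ⟨fun x hx => ?_, fun x hx => ?_⟩
    · rw [mul_assoc]; exact h1 _ (h3 _ hx)
    · rw [mul_inv_rev, mul_assoc]; exact h4 _ (h2 _ hx)
  inv_mem' := by
    rintro g ⟨h1, h2⟩
    exact ⟨h2, by rwa [inv_inv]⟩

end defs

namespace Hyp

variable {R A : Type u} [CommRing R] [CommRing A] [Algebra R A] [PtGrp R A] {D : Datum R A}
  {P : RootPairing D.idx ℤ D.M (Module.Dual ℤ D.M)} {b : P.Base} {nr : D.idx → Pt R A R}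
  (H : Hyp D P b nr) {lam : D.M →+ ℤ} (hlam : ∀ a, 0 < lam (D.root a) ↔ b.IsPos a)

include H

omit H in
lemma exists_lam (hP : ∀ a, P.root a = D.root a) (b : P.Base) :
    ∃ lam : D.M →+ ℤ, ∀ a, 0 < lam (D.root a) ↔ b.IsPos a := by
  obtain ⟨lam, N, hN, h⟩ := PinComb.exists_height_functional b
  refine ⟨lam, fun a => ?_⟩
  rw [← hP, h, RootPairing.Base.isPos_iff]
  exact mul_pos_iff_of_pos_left hN

section anyRing

variable {B : Type u} [CommRing B] [Algebra R B]

include hlam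

omit H in
lemma mem_U_iff (hG : D.Good) {L : List D.idx} (hL : L.Nodup) (hLc : ∀ a, a ∈ L) (g : Pt R A B) :
    g ∈ UG hG lam B ↔ ∃ y : D.idx → B, (∀ a, ¬ b.IsPos a → y a = 0) ∧
      g = (L.map (fun a => D.uu a B (y a))).prod := by
  rw [mem_UG_iff hG lam hL hLc]
  refine exists_congr fun y => and_congr (forall_congr' fun a => ?_) Iff.rfl
  rw [← hlam, not_lt]

omit H in
lemma uu_mem (hG : D.Good) {a : D.idx} (ha : b.IsPos a) (x : B) : D.uu a B x ∈ UG hG lam B :=
  uu_mem_UG hG lam ((hlam a).mpr ha) x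

omit hlam in
lemma U_mul_mem {u g : Pt R A B} (hu : u ∈ UG H.good lam B) (hg : g ∈ XB b nr H.good lam B) :
    u * g ∈ XB b nr H.good lam B := by
  obtain ⟨w, hw, v, hv, β, hβ, rfl⟩ := hg
  exact ⟨w, hw, u * v, mul_mem hu hv, β, hβ, by group⟩

omit hlam in
lemma i_mul_mem (t : TPt D.M B) {g : Pt R A B} (hg : g ∈ XB b nr H.good lam B) :
    D.i B t * g ∈ XB b nr H.good lam B := by
  obtain ⟨w, hw, v, hv, β, hβ, rfl⟩ := hg
  obtain ⟨t', ht'⟩ := (H.np_nw w B).tor' t
  refine ⟨w, hw, D.i B t * v * (D.i B t)⁻¹, conj_i_mem_UG H.good lam t hv, D.i B t' * β,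
    mul_mem (i_mem_BG H.good t') hβ, ?_⟩
  rw [← ht']; group

/-- the radical part of a positive unipotent point stays positive under a simple reflection -/
lemma conj_simple_mem {a : D.idx} (ha : a ∈ b.support) {L : List D.idx} (hL : L.Nodup)
    (hLc : ∀ a, a ∈ L) {y : D.idx → B} (hy : ∀ c, ¬ b.IsPos c → y c = 0) (hya : y a = 0) :
    bp B (nr a) * (L.map (fun c => D.uu c B (y c))).prod * (bp B (nr a))⁻¹ ∈ UG H.good lam B := by
  have hred : P.IsReduced := PinComb.isReduced b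
  obtain ⟨x', hx', hprod⟩ := (H.np a B).conj_prod y
  rw [hprod, mem_U_iff hlam H.good (nodup_map hL _) (mem_map hLc _)]
  refine ⟨x', ?_, rfl⟩
  intro d hd
  have h1 : P.reflectionPerm a (P.reflectionPerm a d) = d := P.reflectionPerm_involutive a d
  rw [← h1]
  apply hx'
  by_cases hc : P.reflectionPerm a d = a
  · rw [hc, hya]
  · apply hy
    intro hpos
    apply hd
    rw [← h1]
    exact hpos.reflectionPerm ha hc

end anyRing

section field

variable {K : Type u} [Field K] [Algebra R K]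

include hlam

/-- **The union of the Bruhat cells is stable under the simple reflection points.** -/
lemma n_mul_mem {a : D.idx} (ha : a ∈ b.support) {g : Pt R A K} (hg : g ∈ XB b nr H.good lam K) :
    bp K (nr a) * g ∈ XB b nr H.good lam K := by
  classical
  obtain ⟨w, hw, u, hu, β, hβ, rfl⟩ := hg
  set n := bp K (nr a) with hn
  -- the list ending with `a`
  set l : List D.idx := (Finset.univ.erase a).toList with hl
  have hL : (l ++ [a]).Nodup := by
    rw [List.nodup_append]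
    refine ⟨Finset.nodup_toList _, List.nodup_singleton _, ?_⟩
    intro c hc d hd hcd
    rw [List.mem_singleton] at hd
    subst hd
    subst hcd
    rw [hl, Finset.mem_toList, Finset.mem_erase] at hc
    exact hc.1 rfl
  have hLc : ∀ c, c ∈ l ++ [a] := by
    intro c
    rw [List.mem_append, List.mem_singleton, hl, Finset.mem_toList, Finset.mem_erase]
    by_cases h : c = a
    · exact Or.inr h
    · exact Or.inl ⟨h, Finset.mem_univ _⟩
  obtain ⟨y, hy, hyu⟩ := (mem_U_iff hlam H.good hL hLc u).mp hu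
  set y' : D.idx → K := fun c => if c = a then 0 else y c with hy'
  have hsplit : u = ((l ++ [a]).map (fun c => D.uu c K (y' c))).prod * D.uu a K (y a) := by
    rw [hyu, List.map_append, List.prod_append, List.map_append, List.prod_append]
    have e1 : l.map (fun c => D.uu c K (y c)) = l.map (fun c => D.uu c K (y' c)) := by
      apply List.map_congr_left
      intro c hc
      rw [hl, Finset.mem_toList, Finset.mem_erase] at hc
      simp [hy', hc.1]
    rw [e1]
    simp [hy']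
  have hU' := H.conj_simple_mem hlam ha hL hLc (y := y') (fun c hc => by
    simp only [hy']
    split_ifs
    · rfl
    · exact hy c hc) (by simp [hy'])
  suffices hs : n * D.uu a K (y a) * nw nr K w * β ∈ XB b nr H.good lam K by
    have e : n * (u * nw nr K w * β) = (n * ((l ++ [a]).map (fun c => D.uu c K (y' c))).prod * n⁻¹) *
        (n * D.uu a K (y a) * nw nr K w * β) := by
      rw [hsplit]; group
    rw [e]
    exact H.U_mul_mem hU' hs
  set σ : Equiv.Perm D.idx := (w.map P.reflectionPerm).prod with hσ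
  have hnp := H.np_nw w K
  obtain ⟨r, hr⟩ := hnp.inv.conj a
  have hcomm : ∀ x : K, D.uu a K x * nw nr K w = nw nr K w * D.uu (σ⁻¹ a) K (r * x) := by
    intro x
    rw [← hr x]; group
  have hw' : ∀ c ∈ a :: w, c ∈ b.support := by
    intro c hc
    rcases List.mem_cons.mp hc with h | h
    · rw [h]; exact ha
    · exact hw c h
  by_cases hc : b.IsPos (σ⁻¹ a)
  · refine ⟨a :: w, hw', 1, one_mem _, D.uu (σ⁻¹ a) K (r * y a) * β,
      mul_mem (U_le_BG H.good (uu_mem hlam H.good hc _)) hβ, ?_⟩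
    rw [nw_cons, mul_assoc n, hcomm, ← hn]
    simp only [mul_assoc, one_mul]
  by_cases hy0 : y a = 0
  · refine ⟨a :: w, hw', 1, one_mem _, β, hβ, ?_⟩
    rw [hy0, D.uu_zero, nw_cons, ← hn]
    simp only [mul_assoc, one_mul]
  obtain ⟨z, z', t, hzt⟩ := H.uu_eq ha (B := K) (Units.mk0 (y a) hy0)
  rw [Units.val_mk0, ← hn] at hzt
  set a' := P.reflectionPerm a a with ha'
  obtain ⟨r₁, hr₁⟩ := (H.np a K).conj a'
  have hσa' : P.reflectionPerm a a' = a := P.reflectionPerm_involutive a a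
  rw [hσa', ← hn] at hr₁
  obtain ⟨r₂, hr₂⟩ := hnp.inv.conj a'
  have hneg : σ⁻¹ a' = P.reflectionPerm (σ⁻¹ a) (σ⁻¹ a) := by
    apply σ.injective
    have e1 : σ (σ⁻¹ a') = a' := σ.apply_symm_apply a'
    have e2 : σ (σ⁻¹ a) = a := σ.apply_symm_apply a
    rw [e1, wordPerm_neg, ← hσ, e2]
  have hpos : b.IsPos (σ⁻¹ a') := by
    rw [hneg]
    exact (RootPairing.Base.IsPos.neg_iff_not b (σ⁻¹ a)).mpr hc
  obtain ⟨t₀, ht₀⟩ := H.exists_sq a
  have hnn : n * n = D.i K (TPt.map (Algebra.ofId R K) t₀) := by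
    rw [hn, bp, ← Pt.map_mul, ht₀, D.i_nat]
  obtain ⟨t₁, ht₁⟩ := hnp.tor' (TPt.map (Algebra.ofId R K) t₀ * t)
  refine ⟨w, hw, D.uu a K (r₁ * z), uu_mem hlam H.good
      (RootPairing.Base.isPos_of_mem_support ha) _,
    D.i K t₁ * (D.uu (σ⁻¹ a') K (r₂ * z') * β),
    mul_mem (i_mem_BG H.good t₁) (mul_mem (U_le_BG H.good (uu_mem hlam H.good hpos _)) hβ), ?_⟩
  rw [hzt, ← hr₁, ← hr₂, ← ht₁, i_mul', ← hnn]
  group

/-- ... and under their inverses. -/
lemma n_inv_mul_mem {a : D.idx} (ha : a ∈ b.support) {g : Pt R A K}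
    (hg : g ∈ XB b nr H.good lam K) : (bp K (nr a))⁻¹ * g ∈ XB b nr H.good lam K := by
  obtain ⟨t₀, ht₀⟩ := H.exists_sq a
  have hnn : bp K (nr a) * bp K (nr a) = D.i K (TPt.map (Algebra.ofId R K) t₀) := by
    rw [bp, ← Pt.map_mul, ht₀, D.i_nat]
  have e : (bp K (nr a))⁻¹ * g = D.i K (TPt.map (Algebra.ofId R K) t₀)⁻¹ * (bp K (nr a) * g) := by
    rw [i_inv', ← hnn]; group
  rw [e]
  exact H.i_mul_mem _ (H.n_mul_mem hlam ha hg)

/-- ... and under all root groups. -/
lemma uu_mul_mem (c : D.idx) (x : K) {g : Pt R A K} (hg : g ∈ XB b nr H.good lam K) :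
    D.uu c K x * g ∈ XB b nr H.good lam K := by
  obtain ⟨l, a, ha, hl, rfl⟩ := PinComb.exists_word b c
  induction l generalizing x g with
  | nil =>
    exact H.U_mul_mem (uu_mem hlam H.good (RootPairing.Base.isPos_of_mem_support ha) x) hg
  | cons d l ih =>
    rw [List.foldr_cons]
    set c₀ := l.foldr (fun c j => P.reflectionPerm c j) a with hc₀
    have hd : d ∈ b.support := hl d (by simp)
    obtain ⟨r, hr⟩ := (H.np d K).conj c₀
    have h1 := hr ((r⁻¹ : Kˣ) * x)
    rw [← mul_assoc, Units.mul_inv, one_mul] at h1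
    rw [← h1]
    have e : bp K (nr d) * D.uu c₀ K ((r⁻¹ : Kˣ) * x) * (bp K (nr d))⁻¹ * g =
        bp K (nr d) * (D.uu c₀ K ((r⁻¹ : Kˣ) * x) * ((bp K (nr d))⁻¹ * g)) := by group
    rw [e]
    exact H.n_mul_mem hlam hd (ih _ (H.n_inv_mul_mem hlam hd hg)
      (fun c hc => hl c (List.mem_cons_of_mem _ hc)))

end field

section algClosed

variable {K : Type u} [Field K] [IsAlgClosed K] [Algebra R K]

include hlam

/-- **Every point over an algebraically closed field is in a Bruhat cell.** -/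
theorem mem_XB (g : Pt R A K) : g ∈ XB b nr H.good lam K := by
  have := H.smooth
  have hdom := H.dom K
  have hfp : Algebra.FinitePresentation R A := inferInstance
  have hft : Algebra.FiniteType R A := inferInstance
  obtain ⟨δ, hδ, hδ0⟩ := H.good Finset.univ.toList (Finset.nodup_toList _) (fun a => by simp)
  obtain ⟨x, x', t, t', -, -, h⟩ := exists_quot hδ hδ0 g
  set X := XB b nr H.good lam K with hX
  have hu : ∀ (c : D.idx) (x : K), D.uu c K x ∈ stab X := fun c x =>
    ⟨fun g hg => H.uu_mul_mem hlam c x hg, fun g hg => by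
      rw [← D.uu_neg]; exact H.uu_mul_mem hlam c (-x) hg⟩
  have hi : ∀ t : TPt D.M K, D.i K t ∈ stab X := fun t =>
    ⟨fun g hg => H.i_mul_mem t hg, fun g hg => by
      rw [← i_inv']; exact H.i_mul_mem _ hg⟩
  have hcell : ∀ (x : D.idx → K) (t : TPt D.M K), D.cell Finset.univ.toList x t ∈ stab X := by
    intro x t
    refine mul_mem (list_prod_mem ?_) (hi t)
    intro y hy
    obtain ⟨c, -, rfl⟩ := List.mem_map.mp hy
    exact hu c _
  have hg : g ∈ stab X := by
    have e : g = D.cell Finset.univ.toList x' t' * (D.cell Finset.univ.toList x t)⁻¹ := by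
      rw [← h]; group
    rw [e]
    exact mul_mem (hcell _ _) (inv_mem (hcell _ _))
  have h1 : (1 : Pt R A K) ∈ X :=
    ⟨[], by simp, 1, one_mem _, 1, one_mem _, by simp⟩
  have := hg.1 1 h1
  rwa [mul_one] at this

/-- Every point is a Weyl point times a point of the big cell. -/
theorem exists_word_cell' {L₁ L₂ : List D.idx} (hL : (L₁ ++ L₂).Nodup) (hLc : ∀ a, a ∈ L₁ ++ L₂)
    (h₂ : ∀ a ∈ L₂, b.IsPos a) (h₁ : ∀ a ∈ L₁, ¬ b.IsPos a) (g : Pt R A K) :
    ∃ w : List D.idx, (∀ c ∈ w, c ∈ b.support) ∧ ∃ (x y : D.idx → K) (t : TPt D.M K),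
      g = nw nr K w * ((L₁.map (fun c => D.uu c K (x c))).prod * (D.i K t *
        (L₂.map (fun c => D.uu c K (y c))).prod)) := by
  obtain ⟨w, hw, u, hu, β, ⟨v, hv, t, rfl⟩, rfl⟩ := H.mem_XB hlam g
  refine ⟨w, hw, ?_⟩
  set σ : Equiv.Perm D.idx := (w.map P.reflectionPerm).prod with hσ
  have hnp := H.np_nw w K
  obtain ⟨y, hy, hyu⟩ := (mem_U_iff hlam H.good (nodup_map hL σ) (mem_map hLc σ) u).mp hu
  obtain ⟨x', -, hprod⟩ := hnp.inv.conj_prod y
  have h3 : (nw nr K w)⁻¹ * u * (nw nr K w)⁻¹⁻¹ =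
      (L₁.map (fun c => D.uu c K (x' c))).prod * (L₂.map (fun c => D.uu c K (x' c))).prod := by
    have e : ((L₁ ++ L₂).map σ).map (σ⁻¹ : Equiv.Perm D.idx) = L₁ ++ L₂ := by
      rw [List.map_map]
      have : ((σ⁻¹ : Equiv.Perm D.idx) : D.idx → D.idx) ∘ σ = id := by
        funext c
        exact σ.symm_apply_apply c
      rw [this, List.map_id]
    rw [hyu, hprod, e, List.map_append, List.prod_append]
  set V := (L₂.map (fun c => D.uu c K (x' c))).prod with hV
  have hVm : V ∈ UG H.good lam K := by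
    rw [hV]
    apply list_prod_mem
    intro z hz
    obtain ⟨c, hc, rfl⟩ := List.mem_map.mp hz
    exact uu_mem hlam H.good (h₂ c hc) _
  -- move the torus to the left
  have hv' : D.i K t⁻¹ * (V * v) * (D.i K t⁻¹)⁻¹ ∈ UG H.good lam K :=
    conj_i_mem_UG H.good lam _ (mul_mem hVm hv)
  obtain ⟨y₂, hy₂, he₂⟩ := (mem_U_iff hlam H.good hL hLc _).mp hv'
  have h4 : ((L₁ ++ L₂).map (fun a => D.uu a K (y₂ a))).prod =
      (L₂.map (fun a => D.uu a K (y₂ a))).prod := by
    rw [List.map_append, List.prod_append]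
    have e : (L₁.map (fun a => D.uu a K (y₂ a))).prod = 1 := by
      apply List.prod_eq_one
      intro z hz
      obtain ⟨c, hc, rfl⟩ := List.mem_map.mp hz
      rw [hy₂ c (h₁ c hc), D.uu_zero]
    rw [e, one_mul]
  rw [h4] at he₂
  refine ⟨x', y₂, t, ?_⟩
  rw [← he₂, i_inv']
  have h5 : u * nw nr K w = nw nr K w * ((nw nr K w)⁻¹ * u * (nw nr K w)⁻¹⁻¹) := by group
  rw [h5, h3]
  group

end algClosed

/-- **Covering by the Weyl translates of the big cell** over an algebraically closed field, for arbitrary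
orderings of the negative and the positive roots. -/
theorem exists_word_cell {K : Type u} [Field K] [IsAlgClosed K] [Algebra R K] {L₁ L₂ : List D.idx}
    (hL : (L₁ ++ L₂).Nodup) (hLc : ∀ a, a ∈ L₁ ++ L₂)
    (h₂ : ∀ a ∈ L₂, b.IsPos a) (h₁ : ∀ a ∈ L₁, ¬ b.IsPos a) (g : Pt R A K) :
    ∃ w : List D.idx, (∀ c ∈ w, c ∈ b.support) ∧ ∃ (x y : D.idx → K) (t : TPt D.M K),
      g = nw nr K w * ((L₁.map (fun c => D.uu c K (x c))).prod * (D.i K t *
        (L₂.map (fun c => D.uu c K (y c))).prod)) := by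
  obtain ⟨lam, hlam⟩ := exists_lam H.root b
  exact H.exists_word_cell' hlam hL hLc h₂ h₁ g

end Hyp

end Groth.Agent.RedSub.H636.WeylCov
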