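import Groth.Agent.RedSub.H636.CellPts
import Groth.Agent.RedSub.H636.WeylCov3
import Groth.Agent.Sga3B.ChartGood848

/-!
# Scheme-level consequences: positive roots, geometric points of `G`, covering by translates of the big cell
-/

set_option autoImplicit false
universe u

open CategoryTheory MonoidalCategory CartesianMonoidalCategory MonObj GrpObj AlgebraicGeometry TensorProduct

namespace Groth.Agent.RedSub.H636.SchemeCov

open Groth.Agent.Sga3B Groth.Agent.Sga3B.Cell Groth.Agent.Sga3B.PinMod CellPts WeylCov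

section roots

variable {idx M : Type} [Finite idx] [AddCommGroup M] [Module.Free ℤ M] [Module.Finite ℤ M]
  {P : RootPairing idx ℤ M (Module.Dual ℤ M)} (b : P.Base)

omit [Finite idx] [Module.Free ℤ M] [Module.Finite ℤ M] in
lemma height_nonneg {lam : M →+ ℤ} (hlam : ∀ a ∈ b.support, 0 ≤ lam (P.root a)) {m : M}
    (hm : m ∈ AddSubmonoid.closure (P.root '' (b.support : Set idx))) : 0 ≤ lam m := by
  induction hm using AddSubmonoid.closure_induction with
  | mem x hx =>
    obtain ⟨a, ha, rfl⟩ := hx
    exact hlam a ha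
  | zero => rw [map_zero]
  | add x y _ _ hx hy => rw [map_add]; omega

lemma mem_posRoots_iff (a : idx) : a ∈ RedSub.posRoots P b ↔ b.IsPos a := by
  obtain ⟨lam, N, hN, h⟩ := PinComb.exists_height_functional b
  have h0 : ∀ a ∈ b.support, 0 ≤ lam (P.root a) := by
    intro a ha
    rw [h, RootPairing.Base.height_one_of_mem_support ha]
    omega
  have key : ∀ a, a ∈ RedSub.posRoots P b → b.IsPos a := by
    intro a ha
    rw [RootPairing.Base.isPos_iff']
    have h1 := height_nonneg b h0 ha
    rw [h] at h1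
    exact nonneg_of_mul_nonneg_right h1 hN
  have key' : ∀ a, a ∈ RedSub.negRoots P b → ¬ b.IsPos a := by
    intro a ha
    rw [RootPairing.Base.isPos_iff, not_lt]
    have h1 := height_nonneg b h0 ha
    rw [map_neg, h] at h1
    by_contra h2
    have := mul_pos hN (not_le.mp h2)
    omega
  refine ⟨key a, fun ha => ?_⟩
  rcases b.root_mem_or_neg_mem a with h1 | h1
  · exact h1
  · exact absurd ha (key' a h1)

lemma mem_negRoots_iff (a : idx) : a ∈ RedSub.negRoots P b ↔ ¬ b.IsPos a := by
  constructor
  · intro ha hp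
    have h2 : P.reflectionPerm a a ∈ RedSub.posRoots P b := by
      change P.root (P.reflectionPerm a a) ∈ AddSubmonoid.closure (P.root '' (b.support : Set idx))
      rw [P.root_reflectionPerm, P.reflection_apply_self]
      exact ha
    rw [mem_posRoots_iff] at h2
    exact (RootPairing.Base.IsPos.neg_iff_not b a).mp h2 hp
  · intro ha
    rcases b.root_mem_or_neg_mem a with h1 | h1
    · exact absurd ((mem_posRoots_iff b a).mp h1) ha
    · exact h1

variable {b} {n m : ℕ} {eneg : Fin n → idx} {epos : Fin m → idx}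

lemma nodup_ofFn (hneg : RedSub.Enumerates (RedSub.negRoots P b) eneg)
    (hpos : RedSub.Enumerates (RedSub.posRoots P b) epos) :
    (List.ofFn eneg ++ List.ofFn epos).Nodup := by
  rw [List.nodup_append]
  refine ⟨List.nodup_ofFn.mpr hneg.1, List.nodup_ofFn.mpr hpos.1, ?_⟩
  intro a ha c hc hac
  subst hac
  have h1 : a ∈ RedSub.negRoots P b := by
    rw [← hneg.2]; exact (List.mem_ofFn' _ _).mp ha
  have h2 : a ∈ RedSub.posRoots P b := by
    rw [← hpos.2]; exact (List.mem_ofFn' _ _).mp hc
  exact (mem_negRoots_iff b a).mp h1 ((mem_posRoots_iff b a).mp h2)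

lemma mem_ofFn (hneg : RedSub.Enumerates (RedSub.negRoots P b) eneg)
    (hpos : RedSub.Enumerates (RedSub.posRoots P b) epos) (a : idx) :
    a ∈ List.ofFn eneg ++ List.ofFn epos := by
  rw [List.mem_append, List.mem_ofFn', List.mem_ofFn']
  by_cases h : b.IsPos a
  · right; rw [hpos.2]; exact (mem_posRoots_iff b a).mpr h
  · left; rw [hneg.2]; exact (mem_negRoots_iff b a).mpr h

lemma isPos_of_mem (hpos : RedSub.Enumerates (RedSub.posRoots P b) epos) {a : idx}
    (ha : a ∈ List.ofFn epos) : b.IsPos a := by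
  rw [← mem_posRoots_iff, ← hpos.2]
  exact (List.mem_ofFn' _ _).mp ha

lemma not_isPos_of_mem (hneg : RedSub.Enumerates (RedSub.negRoots P b) eneg) {a : idx}
    (ha : a ∈ List.ofFn eneg) : ¬ b.IsPos a := by
  rw [← mem_negRoots_iff, ← hneg.2]
  exact (List.mem_ofFn' _ _).mp ha

end roots

variable {S : Scheme.{u}} {G : Over S} [GrpObj G] (D : Red.SplitRed G)

/-- The standing hypotheses hold in every chart. -/
theorem hyp {R : Type u} [CommRing R] {s : Spec (CommRingCat.of R) ⟶ S} (c : Chart G s)
    (b : D.P.Base) {nr : D.idx → (𝟙_ (Over S) ⟶ G)} (hnr : RedSub.RealisesReflections D nr) :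
    Hyp (c.datum D) D.P b (fun a => secPt c R (nr a)) where
  good := c.good848 D
  smooth := c.smooth848 D
  dom K _ _ := c.isDomain848 D K
  root _ := rfl
  pe := D.pairing_eq
  acts a := acts_of_realises D c hnr a

lemma nw_secPt {R : Type u} [CommRing R] {s : Spec (CommRingCat.of R) ⟶ S} (c : Chart G s)
    (nr : D.idx → (𝟙_ (Over S) ⟶ G)) (B : Type u) [CommRing B] [Algebra R B] (w : List D.idx) :
    nw (D := c.datum D) (fun a => secPt c R (nr a)) B w = secPt c B (w.map nr).prod := by
  rw [secPt_prod, List.map_map]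
  unfold nw
  congr 1
  apply List.map_congr_left
  intro a _
  exact map_secPt c _ (nr a)

omit [GrpObj G] in
/-- a point of `G` is the image of a geometric point -/
lemma exists_geomPoint (x : ↥G.left) : ∃ (K : Type u) (_ : Field K) (_ : IsAlgClosed K)
    (s : Spec (CommRingCat.of K) ⟶ S) (ξ : tB s K ⟶ G) (p : ↥(tB s K).left), ξ.left.base p = x := by
  let κ := G.left.residueField x
  let K := AlgebraicClosure κ
  let g : Spec (CommRingCat.of K) ⟶ G.left :=
    Spec.map (CommRingCat.ofHom (algebraMap κ K)) ≫ G.left.fromSpecResidueField x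
  let s : Spec (CommRingCat.of K) ⟶ S := g ≫ G.hom
  let ξ : tB s K ⟶ G := Over.homMk (Spec.map (CommRingCat.ofHom (algebraMap K K)) ≫ g)
    (by simp only [Over.mk_hom, Category.assoc]; rfl)
  refine ⟨K, inferInstance, inferInstance, s, ξ, (⊥ : PrimeSpectrum K), ?_⟩
  have h1 : ∀ z : ↥(Spec (CommRingCat.of K)), (Spec.map (CommRingCat.ofHom (algebraMap K K)) ≫ g).base z = x := by
    intro z
    change (G.left.fromSpecResidueField x).base _ = x
    have h2 := G.left.range_fromSpecResidueField x
    have h3 : (G.left.fromSpecResidueField x).base ((Spec.map (CommRingCat.ofHom (algebraMap κ K))).base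
        ((Spec.map (CommRingCat.ofHom (algebraMap K K))).base z)) ∈
        Set.range (G.left.fromSpecResidueField x).base := ⟨_, rfl⟩
    rw [h2] at h3
    exact h3
  exact h1 _

/-- **Covering by the Weyl translates of the big cell.** The word can be chosen in the simple roots. -/
theorem exists_word (b : D.P.Base) {n m : ℕ} (eneg : Fin n → D.idx) (epos : Fin m → D.idx)
    (hneg : RedSub.Enumerates (RedSub.negRoots D.P b) eneg)
    (hpos : RedSub.Enumerates (RedSub.posRoots D.P b) epos)
    (nr : D.idx → (𝟙_ (Over S) ⟶ G)) (hnr : RedSub.RealisesReflections D nr) (x : ↥G.left) :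
    ∃ w : List D.idx, (∀ a ∈ w, a ∈ b.support) ∧
      x ∈ Set.range ((toUnit _ ≫ (w.map nr).prod) * RedSub.cellMap D eneg epos).left.base := by
  obtain ⟨K, _, _, s, ξ, p, hp⟩ := exists_geomPoint (G := G) x
  have := D.reductive.1
  obtain ⟨c⟩ := exists_chart G s
  have H := hyp D c b hnr
  obtain ⟨w, hw, y, z, t, h⟩ := H.exists_word_cell (K := K) (L₁ := List.ofFn eneg)
    (L₂ := List.ofFn epos) (nodup_ofFn hneg hpos) (mem_ofFn hneg hpos)
    (fun a ha => isPos_of_mem hpos ha) (fun a ha => not_isPos_of_mem hneg ha) ((c.pts K).symm ξ)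
  refine ⟨w, hw, ?_⟩
  set Z : tB s K ⟶ RedSub.pow (Red.Ga S) n ⊗ (D.T ⊗ RedSub.pow (Red.Ga S) m) :=
    lift (powPt n (fun k => gaP s (y (eneg k)))) (lift (tP D s t) (powPt m (fun k => gaP s (z (epos k)))))
    with hZ
  have h1 : ξ = Z ≫ ((toUnit _ ≫ (w.map nr).prod) * RedSub.cellMap D eneg epos) := by
    rw [MonObj.comp_mul, hZ, cellMap_chart D c, ← hZ, ← Category.assoc]
    have h2 : Z ≫ toUnit _ = toUnit _ := toUnit_unique _ _
    rw [h2, ← pts_secPt c, ← map_mul]
    have h3 : (c.pts K).symm ξ = secPt c K (w.map nr).prod *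
        ((List.ofFn fun k => (c.datum D).uu (eneg k) K (y (eneg k))).prod *
        ((c.datum D).i K t * (List.ofFn fun k => (c.datum D).uu (epos k) K (z (epos k))).prod)) := by
      rw [h, nw_secPt, List.map_ofFn, List.map_ofFn]
      rfl
    rw [← h3, MulEquiv.apply_symm_apply]
  refine ⟨Z.left.base p, ?_⟩
  rw [← hp, h1]
  rfl

end Groth.Agent.RedSub.H636.SchemeCov
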