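import Groth.Agent.RedSub.H636.ClosedRoots
import Groth.Agent.RedSub.H636.MonSub
import Groth.Agent.RedSub.H636.MonPts
import Groth.Agent.RedSub.H636.ConnFib
import Groth.Agent.Sga3B.MaxTorBc636
import Groth.Agent.Sga3B.Pts
import Groth.Agent.S3025

/-!
# Existence of the subgroup of type (R) attached to a closed set of roots

`D` a splitting of `G`, `R'` a closed set of roots. The neutral component of the closed subgroup of the monoid
generated by `R'` is a subgroup of type (R) containing the torus, whose root subgroups are those of `R'`.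
-/

set_option autoImplicit false

universe u

open CategoryTheory MonoidalCategory CartesianMonoidalCategory MonObj GrpObj AlgebraicGeometry Limits
open Groth.Agent.Sga3B Groth.Agent.Sga3B.Parab.OrbM156 Groth.Agent.Sga3.H778.NeutralOpen
  Groth.Agent.Sga3.H778.NeutralPts

namespace Groth.Agent.RedSub.H636.TypeRExist

variable {S : Scheme.{u}} {G : Over S} [GrpObj G] (D : Red.SplitRed G)

lemma splitHom_comp_j : D.split.hom.hom.hom ≫ Chart.j D = D.i := by
  have h2 : D.split.hom.hom.hom ≫ D.split.inv.hom.hom = 𝟙 _ :=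
    congrArg (fun f => f.hom.hom) D.split.hom_inv_id
  change D.split.hom.hom.hom ≫ D.split.inv.hom.hom ≫ D.i = D.i
  rw [reassoc_of% h2]

/-- **The subgroup of type (R) attached to a monoid of characters.** -/
theorem exists_typeR_mon (T : Submonoid (Multiplicative D.M)) :
    ∃ (H : Over S) (_ : GrpObj H) (h : H ⟶ G) (t : D.T ⟶ H), _root_.RedSub.IsTypeR h ∧ t ≫ h = D.i ∧
      (∀ (X : Over S) (x : X ⟶ H), PtT (Chart.j D) T (x ≫ h)) ∧
      ∀ a : D.idx, Multiplicative.ofAdd (D.P.root a) ∈ T → ∃ v : Red.Ga S ⟶ H, v ≫ h = D.u a := by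
  have haff : IsAffineHom G.hom := D.reductive.1
  have hsm : Smooth G.hom := D.reductive.2.1
  obtain ⟨P, _, p, hpm, hpmono, hpcl, hp⟩ := exists_subgroup_T (Chart.j D) T
  have hP : Smooth P.hom := MonSub.smooth_of_ptT (Chart.j D) T hp
  have hPt : Smooth ((⊤ : P.left.Opens).ι ≫ P.hom) := inferInstance
  have h0 : IsOpen (SGA3x.neutralSet P) := isOpen_neutralSet P ⊤ fun _ => trivial
  obtain ⟨hgrp, hmon⟩ := exists_grpObj P h0
  have hconn : _root_.RedSub.HasConnectedFibres (opn P (neutral P h0)) := isConnected_fibre P h0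
  -- the lift of homomorphisms
  have key : ∀ (K : Over S) [GrpObj K] (f : K ⟶ G) [IsMonHom f], _root_.RedSub.HasConnectedFibres K →
      PtT (Chart.j D) T f → ∃ f' : K ⟶ opn P (neutral P h0), f' ≫ opnι P (neutral P h0) ≫ p = f := by
    intro K _ f _ hK hf
    obtain ⟨f₁, hf₁⟩ := (hp K f).2 hf
    obtain ⟨f', hf'⟩ := ConnFib.exists_lift_neutral h0 f₁ η[K] (by
      rw [← cancel_mono p, Category.assoc, hf₁, IsMonHom.one_hom, IsMonHom.one_hom]) hK
    exact ⟨f', by rw [← Category.assoc, hf', hf₁]⟩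
  have hiT : IsMonHom D.i := D.maximalTorus.1
  have hTor : Red.IsTorus D.T := D.maximalTorus.2.2.1
  obtain ⟨t, ht⟩ := key D.T D.i (ConnFib.hasConnectedFibres_torus hTor) (by
    rw [← splitHom_comp_j]
    exact MonPts.ptT_torus _ T _)
  have hmon2 : IsMonHom (opnι P (neutral P h0) ≫ p) := inferInstance
  have htm : IsMonHom t := by
    have hm : Mono (opnι P (neutral P h0) ≫ p) := inferInstance
    refine Pts.isMonHom_of_points t fun X x y => ?_
    rw [← cancel_mono (opnι P (neutral P h0) ≫ p),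
      MonObj.mul_comp (x ≫ t) (y ≫ t) (opnι P (neutral P h0) ≫ p)]
    simp only [Category.assoc, ht]
    exact MonObj.mul_comp x y D.i
  refine ⟨opn P (neutral P h0), hgrp, opnι P (neutral P h0) ≫ p, t, ⟨⟨hmon2, ?_⟩, ?_, ?_, hconn, ?_⟩, ht, ?_, ?_⟩
  · rw [Over.comp_left]
    infer_instance
  · exact smooth_neutral P ⊤ (fun _ => trivial) h0
  · have : Smooth (opn P (neutral P h0)).hom := smooth_neutral P ⊤ (fun _ => trivial) h0
    exact (Groth.Agent.S3025.result S (opn P (neutral P h0)) hconn).2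
  · intro s
    refine ⟨Red.geomFibre s D.T, inferInstance, (Over.pullback (Red.geomPt s)).map t, inferInstance, ?_⟩
    rw [← Functor.map_comp, ht]
    exact MaxTorBc636.isMaximalTorus_bc (Red.geomPt s) D.reductive D.maximalTorus
  · intro X x
    rw [← Category.assoc]
    exact (hp X _).1 ⟨_, rfl⟩
  · intro a ha
    have hua : IsMonHom (D.u a) := (D.rootHom a).1
    refine key (Red.Ga S) (D.u a) ConnFib.hasConnectedFibres_Ga ?_
    have := MonPts.ptT_root D T a ha (𝟙 (Red.Ga S))
    rwa [Category.id_comp] at this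

/-- **Existence of the subgroup of type (R) attached to a closed set of roots.** -/
theorem exists_typeR [Nonempty S] (R' : Set D.idx)
    (hcl : ∀ a b c : D.idx, a ∈ R' → b ∈ R' → D.P.root a + D.P.root b = D.P.root c → c ∈ R') :
    ∃ (H : Over S) (_ : GrpObj H) (h : H ⟶ G) (t : D.T ⟶ H), _root_.RedSub.IsTypeR h ∧ t ≫ h = D.i ∧
      ∀ a : D.idx, (∃ v : Red.Ga S ⟶ H, v ≫ h = D.u a) ↔ a ∈ R' := by
  obtain ⟨H, hH, h, t, h1, h2, h3, h4⟩ := exists_typeR_mon D
    (AddSubmonoid.toSubmonoid (AddSubmonoid.closure (D.P.root '' R')))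
  refine ⟨H, hH, h, t, h1, h2, fun a => ⟨?_, fun ha => h4 a ?_⟩⟩
  · rintro ⟨v, hv⟩
    rw [← ClosedRoots.root_mem_closure_iff D.P R' hcl a]
    exact MonPts.mem_of_ptT D _ a (hv ▸ h3 _ v)
  · exact (ClosedRoots.root_mem_closure_iff D.P R' hcl a).2 ha

end Groth.Agent.RedSub.H636.TypeRExist
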