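import Groth.Agent.Sga3B.PinBuild

/-!
# Covering by Weyl translates of the big cell over an algebraically closed field

For a good datum `D` over `R` with root datum `P` and base `b`, and points `nr a` acting on the torus by the
reflections `s_a`: over an algebraically closed field every point is `n_w u⁻ t u⁺` for a word `w`.
-/

set_option autoImplicit false
universe u

open TensorProduct

namespace Groth.Agent.RedSub.H636.WeylCov

open Groth.Agent.Sga3B Groth.Agent.Sga3B.Cell Groth.Agent.Sga3B.Cell.Datum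

section UG

variable {R A : Type u} [CommRing R] [CommRing A] [Algebra R A] [PtGrp R A] {D : Datum R A}

lemma mem_UP_congr (hG : D.Good) {L L' : List D.idx} (hL : L.Nodup) (hLc : ∀ a, a ∈ L)
    (hL' : L'.Nodup) (hLc' : ∀ a, a ∈ L') (lam : D.M →+ ℤ) {B : Type u} [CommRing B] [Algebra R B]
    (g : Pt R A B) : g ∈ D.UP L (fun a => lam (D.root a)) B ↔
      g ∈ D.UP L' (fun a => lam (D.root a)) B := by
  obtain ⟨δ, hδ, hδ0⟩ := hG L hL hLc
  obtain ⟨δ', hδ', hδ0'⟩ := hG L' hL' hLc'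
  exact (mem_UP_iff hδ hδ0 (k := fun a => lam (D.root a)) (θ := D.cochar lam) (fun a => rfl)).trans
    (mem_UP_iff hδ' hδ0' (k := fun a => lam (D.root a)) (θ := D.cochar lam) (fun a => rfl)).symm

/-- The group of points contracted by a cocharacter: products of root elements of positive weight. -/
noncomputable def UG (hG : D.Good) (lam : D.M →+ ℤ) (B : Type u) [CommRing B] [Algebra R B] :
    Subgroup (Pt R A B) where
  carrier := D.UP Finset.univ.toList (fun a => lam (D.root a)) B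
  one_mem' := ⟨fun _ => 0, fun _ _ => rfl, by
    have h := D.cell_zero (B := B) Finset.univ.toList 1
    rw [i_one'] at h
    exact h.symm⟩
  mul_mem' := by
    obtain ⟨δ, hδ, hδ0⟩ := hG _ (Finset.nodup_toList Finset.univ) (fun a => by simp)
    exact fun h h' => UP_mul hδ hδ0 (k := fun a => lam (D.root a)) (θ := D.cochar lam)
      (fun a => rfl) h h'
  inv_mem' := by
    obtain ⟨δ, hδ, hδ0⟩ := hG _ (Finset.nodup_toList Finset.univ) (fun a => by simp)
    exact fun h => UP_inv hδ hδ0 (k := fun a => lam (D.root a)) (θ := D.cochar lam)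
      (fun a => rfl) h

variable (hG : D.Good) (lam : D.M →+ ℤ) {B : Type u} [CommRing B] [Algebra R B]

lemma mem_UG_iff {L : List D.idx} (hL : L.Nodup) (hLc : ∀ a, a ∈ L) (g : Pt R A B) :
    g ∈ UG hG lam B ↔ ∃ y : D.idx → B, (∀ a, lam (D.root a) ≤ 0 → y a = 0) ∧
      g = (L.map (fun a => D.uu a B (y a))).prod := by
  have h1 : g ∈ UG hG lam B ↔ g ∈ D.UP L (fun a => lam (D.root a)) B :=
    mem_UP_congr hG (Finset.nodup_toList _) (fun a => by simp) hL hLc lam g
  rw [h1]
  refine exists_congr fun y => and_congr Iff.rfl ?_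
  rw [cell, i_one', mul_one]

lemma uu_mem_UG {a : D.idx} (ha : 0 < lam (D.root a)) (x : B) : D.uu a B x ∈ UG hG lam B := by
  classical
  rw [mem_UG_iff hG lam (Finset.nodup_toList Finset.univ) (fun a => by simp)]
  refine ⟨fun c => if c = a then x else 0, ?_, ?_⟩
  · intro c hc
    apply if_neg
    rintro rfl
    omega
  · rw [prod_single D (Finset.nodup_toList _) (a := a) (by simp)]
    · rw [if_pos rfl]
    · intro c _ hc
      exact if_neg hc

lemma conj_i_mem_UG (t : TPt D.M B) {g : Pt R A B} (hg : g ∈ UG hG lam B) :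
    D.i B t * g * (D.i B t)⁻¹ ∈ UG hG lam B := by
  obtain ⟨y, hy, rfl⟩ := hg
  rw [conj_cell]
  exact ⟨_, fun a ha => by rw [hy a ha, mul_zero], rfl⟩

end UG

section NP

variable {R A : Type u} [CommRing R] [CommRing A] [Algebra R A] [PtGrp R A] (D : Datum R A)
  {B : Type u} [CommRing B] [Algebra R B]

/-- The point `n` normalises the torus and permutes the root groups by `σ`. -/
structure NP (n : Pt R A B) (σ : Equiv.Perm D.idx) : Prop where
  conj : ∀ c, ∃ r : Bˣ, ∀ x : B, n * D.uu c B x * n⁻¹ = D.uu (σ c) B (r * x)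
  tor : ∀ t : TPt D.M B, ∃ t' : TPt D.M B, n * D.i B t * n⁻¹ = D.i B t'
  tor' : ∀ t : TPt D.M B, ∃ t' : TPt D.M B, n⁻¹ * D.i B t * n = D.i B t'

variable {D}

lemma NP.one : NP D (1 : Pt R A B) 1 :=
  ⟨fun c => ⟨1, fun x => by simp⟩, fun t => ⟨t, by simp⟩, fun t => ⟨t, by simp⟩⟩

lemma NP.mul {n n' : Pt R A B} {σ σ' : Equiv.Perm D.idx} (h : NP D n σ) (h' : NP D n' σ') :
    NP D (n * n') (σ * σ') := by
  refine ⟨fun c => ?_, fun t => ?_, fun t => ?_⟩
  · obtain ⟨r', hr'⟩ := h'.conj c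
    obtain ⟨r, hr⟩ := h.conj (σ' c)
    refine ⟨r * r', fun x => ?_⟩
    have e : n * n' * D.uu c B x * (n * n')⁻¹ = n * (n' * D.uu c B x * n'⁻¹) * n⁻¹ := by group
    rw [e, hr', hr, Units.val_mul, mul_assoc]
    rfl
  · obtain ⟨t', ht'⟩ := h'.tor t
    obtain ⟨t'', ht''⟩ := h.tor t'
    refine ⟨t'', ?_⟩
    have e : n * n' * D.i B t * (n * n')⁻¹ = n * (n' * D.i B t * n'⁻¹) * n⁻¹ := by group
    rw [e, ht', ht'']
  · obtain ⟨t', ht'⟩ := h.tor' t
    obtain ⟨t'', ht''⟩ := h'.tor' t'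
    refine ⟨t'', ?_⟩
    have e : (n * n')⁻¹ * D.i B t * (n * n') = n'⁻¹ * (n⁻¹ * D.i B t * n) * n' := by group
    rw [e, ht', ht'']

lemma NP.inv {n : Pt R A B} {σ : Equiv.Perm D.idx} (h : NP D n σ) : NP D n⁻¹ σ⁻¹ := by
  refine ⟨fun c => ?_, fun t => ?_, fun t => ?_⟩
  · obtain ⟨r, hr⟩ := h.conj (σ⁻¹ c)
    refine ⟨r⁻¹, fun x => ?_⟩
    have h1 := hr ((r⁻¹ : Bˣ) * x)
    rw [← mul_assoc, Units.mul_inv, one_mul] at h1
    have h2 : σ (σ⁻¹ c) = c := σ.apply_symm_apply c
    rw [h2] at h1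
    rw [← h1]; group
  · obtain ⟨t', ht'⟩ := h.tor' t
    exact ⟨t', by rw [← ht']; group⟩
  · obtain ⟨t', ht'⟩ := h.tor t
    exact ⟨t', by rw [← ht']; group⟩

/-- conjugating a product of root elements -/
lemma NP.conj_prod {n : Pt R A B} {σ : Equiv.Perm D.idx} (h : NP D n σ) (x : D.idx → B) :
    ∃ x' : D.idx → B, (∀ c, x c = 0 → x' (σ c) = 0) ∧ ∀ L : List D.idx,
      n * (L.map (fun c => D.uu c B (x c))).prod * n⁻¹ =
        ((L.map σ).map (fun c => D.uu c B (x' c))).prod := by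
  choose r hr using h.conj
  refine ⟨fun d => r (σ.symm d) * x (σ.symm d), fun c hc => ?_, fun L => ?_⟩
  · simp [hc]
  · induction L with
    | nil => simp
    | cons c L ih =>
      simp only [List.map_cons, List.prod_cons] at ih ⊢
      rw [← ih, Equiv.symm_apply_apply, ← hr]
      group

lemma nodup_map {L : List D.idx} (hL : L.Nodup) (σ : Equiv.Perm D.idx) : (L.map σ).Nodup :=
  hL.map σ.injective

lemma mem_map {L : List D.idx} (hL : ∀ a, a ∈ L) (σ : Equiv.Perm D.idx) (a : D.idx) :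
    a ∈ L.map σ := by
  rw [List.mem_map]
  exact ⟨σ.symm a, hL _, σ.apply_symm_apply a⟩

end NP

end Groth.Agent.RedSub.H636.WeylCov
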