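import Groth.Agent.RedSub.H636.WeylCov
import Groth.Agent.Sga3B.CellNorm

/-!
# Covering by Weyl translates of the big cell: Weyl words and the rank one relation
-/

set_option autoImplicit false
universe u

open TensorProduct

namespace Groth.Agent.RedSub.H636.WeylCov

open Groth.Agent.Sga3B Groth.Agent.Sga3B.Cell Groth.Agent.Sga3B.Cell.Datum

/-- Standing hypotheses: a good datum with root datum, base and points acting by the reflections. -/
structure Hyp {R A : Type u} [CommRing R] [CommRing A] [Algebra R A] [PtGrp R A] (D : Datum R A)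
    (P : RootPairing D.idx ℤ D.M (Module.Dual ℤ D.M)) (b : P.Base) (nr : D.idx → Pt R A R) : Prop where
  good : D.Good
  smooth : Algebra.Smooth R A
  dom : ∀ (K : Type u) [Field K] [Algebra R K], IsDomain (K ⊗[R] A)
  root : ∀ a, P.root a = D.root a
  pe : P.toLinearMap = Module.Dual.eval ℤ D.M
  acts : ∀ a, D.Acts (nr a) (P.reflection a).toLinearMap.toAddMonoidHom

namespace Hyp

variable {R A : Type u} [CommRing R] [CommRing A] [Algebra R A] [PtGrp R A] {D : Datum R A}
  {P : RootPairing D.idx ℤ D.M (Module.Dual ℤ D.M)} {b : P.Base} {nr : D.idx → Pt R A R}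
  (H : Hyp D P b nr)
include H

lemma root_neg (a : D.idx) : D.root (P.reflectionPerm a a) = - D.root a := by
  rw [← H.root, ← H.root]; simp

lemma geomDom : GeomDom R A := fun K _ _ _ => H.dom K

/-- the action on the torus in multiplicative form -/
lemma conj_i (a : D.idx) {B : Type u} [CommRing B] [Algebra R B] (t : TPt D.M B) :
    bp B (nr a) * D.i B t * (bp B (nr a))⁻¹ = D.i B (TPt.act (P.reflection a).toAddEquiv t) := by
  rw [mul_inv_eq_iff_eq_mul]
  exact H.acts a fun m => rfl

lemma np (a : D.idx) (B : Type u) [CommRing B] [Algebra R B] :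
    NP D (bp B (nr a)) (P.reflectionPerm a) := by
  refine ⟨fun c => ?_, fun t => ⟨_, H.conj_i a t⟩, fun t => ?_⟩
  · obtain ⟨r, hr⟩ := pin_conj_of P H.root b H.good (fun B _ _ => bp B (nr a))
      (fun φ => map_bp φ (nr a)) a (fun t => H.conj_i a t) c
    exact ⟨Units.map (algebraMap R B : R →* B) r, fun x => hr x⟩
  · refine ⟨TPt.act (P.reflection a).toAddEquiv.symm t, ?_⟩
    have h1 := H.conj_i a (TPt.act (P.reflection a).toAddEquiv.symm t)
    rw [TPt.act_act_symm] at h1
    rw [← h1]; group

/-- the square of a reflection point is in the torus -/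
lemma exists_sq (a : D.idx) : ∃ t : TPt D.M R, nr a * nr a = D.i R t := by
  have := H.smooth
  refine exists_eq_i_of_comm H.good H.geomDom _ ?_
  intro C _ _ φ s
  have h0 : Pt.map φ (nr a) = bp C (nr a) := by
    rw [bp]
    congr 1
    exact Subsingleton.elim _ _
  have h1 := H.conj_i a s
  have h2 := H.conj_i a (TPt.act (P.reflection a).toAddEquiv s)
  have h3 : TPt.act (P.reflection a).toAddEquiv (TPt.act (P.reflection a).toAddEquiv s) = s := by
    apply TPt.ext_ch
    intro m
    rw [TPt.ch_act, TPt.ch_act]
    congr 1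
    exact P.reflection_same a m
  rw [h3, ← h1] at h2
  rw [Pt.map_mul, h0]
  calc bp C (nr a) * bp C (nr a) * D.i C s = bp C (nr a) * (bp C (nr a) * D.i C s *
        (bp C (nr a))⁻¹) * (bp C (nr a))⁻¹ * (bp C (nr a) * bp C (nr a)) := by group
    _ = D.i C s * (bp C (nr a) * bp C (nr a)) := by rw [h2]

omit H in
/-- the permutation of the roots attached to a word -/
lemma wordPerm_neg (w : List D.idx) (c : D.idx) :
    (w.map P.reflectionPerm).prod (P.reflectionPerm c c) =
      P.reflectionPerm ((w.map P.reflectionPerm).prod c) ((w.map P.reflectionPerm).prod c) := by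
  have hni : ∀ i, P.root (P.reflectionPerm i i) = - P.root i := by simp
  induction w with
  | nil => rfl
  | cons a w ih =>
    rw [List.map_cons, List.prod_cons, Equiv.Perm.mul_apply, ih, Equiv.Perm.mul_apply]
    apply P.root.injective
    rw [hni, P.root_reflectionPerm, hni, map_neg, P.root_reflectionPerm]

/-- the product of the chosen points along a word -/
def _root_.Groth.Agent.RedSub.H636.WeylCov.nw {R A : Type u} [CommRing R] [CommRing A] [Algebra R A]
    [PtGrp R A] {D : Datum R A} (nr : D.idx → Pt R A R) (B : Type u) [CommRing B] [Algebra R B]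
    (w : List D.idx) : Pt R A B := (w.map (fun a => bp B (nr a))).prod

omit H in
@[simp] lemma _root_.Groth.Agent.RedSub.H636.WeylCov.nw_nil (B : Type u) [CommRing B] [Algebra R B] :
    nw nr B [] = 1 := rfl

omit H in
@[simp] lemma _root_.Groth.Agent.RedSub.H636.WeylCov.nw_cons (B : Type u) [CommRing B] [Algebra R B]
    (a : D.idx) (w : List D.idx) : nw nr B (a :: w) = bp B (nr a) * nw nr B w := by
  simp [nw]

lemma np_nw (w : List D.idx) (B : Type u) [CommRing B] [Algebra R B] :
    NP D (nw nr B w) (w.map P.reflectionPerm).prod := by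
  induction w with
  | nil => exact NP.one
  | cons a w ih =>
    rw [nw_cons, List.map_cons, List.prod_cons]
    exact (H.np a B).mul ih

/-- the rank one hypotheses -/
lemma rankOne {a : D.idx} (ha : a ∈ b.support) : ∃ I : Ideal A,
    RankOneHyp D a (P.reflectionPerm a a) (P.coroot a) (negList b) (posList b) I (nr a) := by
  classical
  have := H.smooth
  have hP := H.root
  have hpe := H.pe
  have hred : P.IsReduced := PinComb.isReduced b
  have hfp : Algebra.FinitePresentation R A := inferInstance
  have hft : Algebra.FiniteType R A := inferInstance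
  obtain ⟨hinj, I, hI, hmem⟩ := PinBuild.cell_props H.good P hP b
  have hneg := H.root_neg
  have hpos : ∀ a ∈ b.support, b.IsPos a := fun a ha => RootPairing.Base.isPos_of_mem_support ha
  have hnpos : ∀ a ∈ b.support, ¬ b.IsPos (P.reflectionPerm a a) := fun a ha =>
    (RootPairing.Base.IsPos.neg_iff_not b a).not.mpr (not_not.mpr (hpos a ha))
  refine ⟨I, ?_⟩
  exact
      { good := H.good
        ft := hft
        dom := H.dom
        neg := hneg a
        two := by
          have := P.root_coroot_two a
          rw [hpe] at this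
          rw [← hP]
          exact this
        red := by
          intro c hc
          by_cases hac : a = c
          · exact Or.inl hac.symm
          · right
            rw [← hP, ← hP] at hc
            have hli : ¬ LinearIndependent ℤ ![P.root a, P.root c] := by
              intro hli
              rw [LinearIndependent.pair_iff] at hli
              have := (hli (P.coroot a (P.root c)) (-2) (by rw [← hc]; module)).2
              omega
            have h2 := RootPairing.IsReduced.eq_or_eq_neg (P := P) a c hli
            rcases h2 with h2 | h2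
            · exact absurd (P.root.injective h2) hac
            · apply P.root.injective
              rw [P.root_reflectionPerm, P.reflection_apply_self, h2, neg_neg]
        nodup := allList_nodup b
        compl := mem_allList b
        mem_neg := (mem_negList b).mpr (hnpos a ha)
        mem_pos := (mem_posList b).mpr (hpos a ha)
        inj := hinj
        mem_iff := hmem
        acts := acts_rf fun t => by
          rw [H.conj_i, act_reflection P hpe, ← H.root] }

/-- **The rank one Bruhat relation**: `u_a(x) = u_{-a}(z) n_a t u_{-a}(z')` for `x` invertible. -/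
lemma uu_eq {a : D.idx} (ha : a ∈ b.support) {B : Type u} [CommRing B] [Algebra R B] (x : Bˣ) :
    ∃ (z z' : B) (t : TPt D.M B), D.uu a B x =
      D.uu (P.reflectionPerm a a) B z * bp B (nr a) * D.i B t * D.uu (P.reflectionPerm a a) B z' := by
  obtain ⟨I, H1⟩ := H.rankOne ha
  obtain ⟨p, q, t₀, h⟩ := H1.exists_pq
  obtain ⟨r, hr⟩ := H1.exists_conj
  obtain ⟨p, rfl⟩ := H1.isUnit_p h
  have he : -q * (r⁻¹ : Rˣ) = 1 := by
    have h1 := H1.rel_gen h hr (B := R) 1 0 1 (by simp)
    have hc1 : TPt.cow (P.coroot a) (1 : Rˣ) = 1 := by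
      apply TPt.ext_ch
      intro m
      rw [TPt.ch_cow, one_zpow]
      rfl
    rw [mul_zero, D.uu_zero, hc1, i_one', mul_one, one_mul, one_mul] at h1
    have h2 := D.uu_inj a h1
    simpa using h2.symm
  have hq : q = ((-r : Rˣ) : R) := by
    have h1 : (r⁻¹ : Rˣ) * (r : R) = 1 := Units.inv_mul r
    have h2 : -q = r := by
      calc -q = -q * ((r⁻¹ : Rˣ) * (r : R)) := by rw [h1, mul_one]
        _ = (-q * (r⁻¹ : Rˣ)) * r := by ring
        _ = r := by rw [he, one_mul]
    rw [Units.val_neg, ← h2, neg_neg]
  set Q : Bˣ := Units.map (algebraMap R B : R →* B) (-r) with hQ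
  have hQq : algebraMap R B q = (Q : B) := by rw [hq]; rfl
  set y : Bˣ := Q⁻¹ * x with hy
  have h1 := h y
  have h2 : algebraMap R B q * (y : B) = x := by
    rw [hQq, hy, ← Units.val_mul, mul_inv_cancel_left]
  rw [h2] at h1
  set a' := P.reflectionPerm a a with ha'
  set τ : TPt D.M B := TPt.map (Algebra.ofId R B) t₀ * TPt.cow (P.coroot a) y with hτ
  refine ⟨-(algebraMap R B p * (y⁻¹ : Bˣ)), TPt.ch (D.root a') τ * y, τ⁻¹, ?_⟩
  have h3 := D.rel a' τ (y : B)
  rw [← h3, D.uu_neg, i_inv']
  have h4 : D.uu a B x = (D.uu a' B (algebraMap R B p * (y⁻¹ : Bˣ)))⁻¹ *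
      (bp B (nr a) * D.uu a' B y) * (D.i B τ)⁻¹ := by rw [h1]; group
  rw [h4]
  group

end Hyp

end Groth.Agent.RedSub.H636.WeylCov
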